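import Mathlib
import Cfsg.Agent.Lib.FischerMTypes.SixSets
import Cfsg.Agent.Lib.FischerMTypes.PlaneClique
import Cfsg.Agent.Lib.FischerMTypes.TraceCounts

/-!
Type M(22): three commuting transpositions lie in a set of six with the same common neighbours, and
with a fourth outside it they lie in a clique of 22 closed under these sets of six.
-/

set_option autoImplicit false
set_option linter.style.haveILetI false
set_option linter.unusedSectionVars false

namespace Cfsg.Agent.Lib.FischerMTypes.Aut22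

open Cfsg.Agent.Lib.FischerMTypes.Basic Cfsg.Agent.Lib.FischerMTypes.Primitive
  Cfsg.Agent.Lib.FischerMTypes.Lines Cfsg.Agent.Lib.FischerMTypes.SixSets
  Cfsg.Agent.Lib.FischerMTypes.PointModel
open Cfsg.Agent.Lib.FischerMTypes.TraceCounts (Sys)

variable {G : Type*} [Group G] [Finite G] {D : Set G}
variable {F : Type} [Field F] [Fintype F]

/-- the transpositions commuting with three given ones -/
abbrev cl3 (D : Set G) (a b c : G) : Set G := {x | x ∈ D ∧ Commute a x ∧ Commute b x ∧ Commute c x}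

/-- the members of `cl3` commuting with all of it -/
def six (D : Set G) (a b c : G) : Set G := {x | x ∈ cl3 D a b c ∧ ∀ y ∈ cl3 D a b c, Commute x y}

/-- the common set of a fourth -/
abbrev block (D : Set G) (a b c e : G) : Set G := {y | y ∈ cl3 D a b c ∧ Commute e y}

/-- three pairwise commuting transpositions -/
structure Tri (D : Set G) (a b c : G) : Prop where
  ma : a ∈ D
  mb : b ∈ D
  mc : c ∈ D
  nab : a ≠ b
  nac : a ≠ c
  nbc : b ≠ c
  cab : Commute a b
  cac : Commute a c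
  cbc : Commute b c

namespace Tri

variable {a b c : G} (h : Tri D a b c)

include h in
theorem mem_cl3 {x : G} (hx : x = a ∨ x = b ∨ x = c) : x ∈ cl3 D a b c := by
  rcases hx with rfl | rfl | rfl
  · exact ⟨h.ma, Commute.refl _, h.cab.symm, h.cac.symm⟩
  · exact ⟨h.mb, h.cab, Commute.refl _, h.cbc.symm⟩
  · exact ⟨h.mc, h.cac, h.cbc, Commute.refl _⟩

include h in
theorem mem_six {x : G} (hx : x = a ∨ x = b ∨ x = c) : x ∈ six D a b c :=
  ⟨h.mem_cl3 hx, fun y hy => by rcases hx with rfl | rfl | rfl; exacts [hy.2.1, hy.2.2.1, hy.2.2.2]⟩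

include h in
theorem perp_b : b ∈ perp D a := ⟨h.mb, Ne.symm h.nab, h.cab⟩

include h in
theorem perp_c : c ∈ perp D a := ⟨h.mc, Ne.symm h.nac, h.cac⟩

include h in
theorem perp₂_c : c ∈ perp₂ D a b := ⟨h.perp_c, h.mc, Ne.symm h.nbc, h.cbc⟩

end Tri

variable (S : Sys D F)

include S in
theorem ncard_cl3 {a b c : G} (h : Tri D a b c) : (cl3 D a b c).ncard = 54 := by
  have hset : cl3 D a b c = insert a (insert b (insert c
      {y | y ∈ perp D a ∧ (y ≠ b ∧ y ≠ c ∧ Commute b y ∧ Commute c y)})) := by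
    ext y
    constructor
    · intro hy
      by_cases h1 : y = a
      · exact Or.inl h1
      by_cases h2 : y = b
      · exact Or.inr (Or.inl h2)
      by_cases h3 : y = c
      · exact Or.inr (Or.inr (Or.inl h3))
      exact Or.inr (Or.inr (Or.inr ⟨⟨hy.1, h1, hy.2.1⟩, h2, h3, hy.2.2.1, hy.2.2.2⟩))
    · rintro (rfl | rfl | rfl | ⟨hy, -, -, c1, c2⟩)
      · exact h.mem_cl3 (Or.inl rfl)
      · exact h.mem_cl3 (Or.inr (Or.inl rfl))
      · exact h.mem_cl3 (Or.inr (Or.inr rfl))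
      · exact ⟨hy.1, hy.2.2, c1, c2⟩
  rw [hset, Set.ncard_insert_of_notMem ?_ (Set.toFinite _), Set.ncard_insert_of_notMem ?_ (Set.toFinite _),
    Set.ncard_insert_of_notMem ?_ (Set.toFinite _), (S.ctx a h.ma).ncard_edge₂ h.perp_b h.perp_c h.nbc h.cbc]
  · exact fun hy => hy.2.2.1 rfl
  · rintro (e | hy)
    · exact h.nbc e
    · exact hy.2.1 rfl
  · rintro (e | e | hy)
    · exact h.nab e
    · exact h.nac e
    · exact hy.1.2.1 rfl

include S in
theorem cl3_eq_of_subset {a b c p q r : G} (h : Tri D a b c) (h' : Tri D p q r)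
    (hsub : cl3 D a b c ⊆ cl3 D p q r) : cl3 D p q r = cl3 D a b c :=
  (Set.eq_of_subset_of_ncard_le hsub (by rw [ncard_cl3 S h, ncard_cl3 S h']) (Set.toFinite _)).symm

include S in
theorem six_trace {a b c : G} (h : Tri D a b c) : six D a b c \ {a, b} = traceClass D a b c := by
  ext x
  constructor
  · rintro ⟨⟨hx, hall⟩, hne⟩
    simp only [Set.mem_insert_iff, Set.mem_singleton_iff, not_or] at hne
    refine ⟨⟨⟨hx.1, hne.1, hx.2.1⟩, hx.1, hne.2, hx.2.2.1⟩, fun y hy => ?_⟩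
    by_cases hxc : x = c
    · rw [hxc]
    have h' : Tri D a b x := ⟨h.ma, h.mb, hx.1, h.nab, Ne.symm hne.1, Ne.symm hne.2, h.cab, hx.2.1, hx.2.2.1⟩
    have he := cl3_eq_of_subset S h h' fun z hz => ⟨hz.1, hz.2.1, hz.2.2.1, hall z hz⟩
    constructor
    · exact fun hyc => (hall y ⟨hy.1.1, hy.1.2.2, hy.2.2.2, hyc.symm⟩).symm
    · intro hyx
      have : y ∈ cl3 D a b c := he ▸ ⟨hy.1.1, hy.1.2.2, hy.2.2.2, hyx.symm⟩
      exact this.2.2.2.symm
  · rintro ⟨hx, hsame⟩
    refine ⟨⟨⟨hx.1.1, hx.1.2.2, hx.2.2.2, ((hsame c h.perp₂_c).mp (Commute.refl c))⟩, fun y hy => ?_⟩, ?_⟩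
    · by_cases h1 : y = a
      · rw [h1]; exact hx.1.2.2.symm
      by_cases h2 : y = b
      · rw [h2]; exact hx.2.2.2.symm
      exact ((hsame y ⟨⟨hy.1, h1, hy.2.1⟩, hy.1, h2, hy.2.2.1⟩).mp hy.2.2.2.symm).symm
    · simp [hx.1.2.1, hx.2.2.1]

include S in
theorem ncard_six {a b c : G} (h : Tri D a b c) : (six D a b c).ncard = 6 := by
  classical
  have hL := S.lines a h.ma
  obtain ⟨p, q, r, h5⟩ := hL.five b h.perp_b c h.perp_c h.nbc h.cbc
  obtain ⟨-, m1, m2, m3, hnd⟩ := five_trace S.hD h5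
  have hfour : (traceClass D a b c).ncard = 4 := by
    refine le_antisymm (hL.bound b h.perp_b c h.perp₂_c) ?_
    have hsub : (([c, p, q, r].toFinset : Finset G) : Set G) ⊆ traceClass D a b c := by
      intro y hy
      simp only [List.coe_toFinset, Set.mem_ofPred_eq, List.mem_cons, List.not_mem_nil, or_false] at hy
      rcases hy with rfl | rfl | rfl | rfl
      · exact ⟨h.perp₂_c, SameComm.refl _⟩
      all_goals assumption
    have := Set.ncard_le_ncard hsub (Set.toFinite _)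
    rwa [Set.ncard_coe_finset, List.toFinset_card_of_nodup hnd] at this
  have hab : ({a, b} : Set G) ⊆ six D a b c := by
    rintro y (rfl | rfl)
    · exact h.mem_six (Or.inl rfl)
    · exact h.mem_six (Or.inr (Or.inl rfl))
  have := Set.ncard_sdiff_add_ncard_of_subset hab (Set.toFinite _)
  rw [six_trace S h, hfour, Set.ncard_pair h.nab] at this
  omega

include S in
/-- three members of a set of six determine it -/
theorem six_eq {a b c p q r : G} (h : Tri D a b c) (hp : p ∈ six D a b c) (hq : q ∈ six D a b c)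
    (hr : r ∈ six D a b c) (npq : p ≠ q) (npr : p ≠ r) (nqr : q ≠ r) :
    six D p q r = six D a b c := by
  have h' : Tri D p q r :=
    ⟨hp.1.1, hq.1.1, hr.1.1, npq, npr, nqr, hp.2 q hq.1, hp.2 r hr.1, hq.2 r hr.1⟩
  have he := cl3_eq_of_subset S h h' fun z hz => ⟨hz.1, hp.2 z hz, hq.2 z hz, hr.2 z hz⟩
  rw [six, six, he]

include S in
/-- a fourth transposition outside the six spans a clique of 22 -/
theorem block_spec {a b c e : G} (h : Tri D a b c) (he : e ∈ cl3 D a b c) (he' : e ∉ six D a b c) :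
    (block D a b c e).ncard = 22 ∧ ∀ y ∈ block D a b c e, ∀ z ∈ block D a b c e, Commute y z := by
  classical
  obtain ⟨L, hL, hplane⟩ := (S.ctx a h.ma).line_or_plane h.perp_b h.perp₂_c
  have key : ∀ x ∈ six D a b c \ {a, b, c}, x ∈ L := by
    rintro x ⟨hx, hne⟩
    simp only [Set.mem_insert_iff, Set.mem_singleton_iff, not_or] at hne
    by_contra hxL
    obtain ⟨h21, -⟩ := hplane x ⟨hx.1.1, hne.1, hx.1.2.1⟩ hne.2.1 hne.2.2 hx.1.2.2.1 hx.1.2.2.2 hxL
    have hset : cl3 D a b c \ {a} = {y | y ∈ perp D a ∧ Commute b y ∧ Commute c y ∧ Commute x y} := by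
      ext y
      exact ⟨fun hy => ⟨⟨hy.1.1, hy.2, hy.1.2.1⟩, hy.1.2.2.1, hy.1.2.2.2, hx.2 y hy.1⟩,
        fun hy => ⟨⟨hy.1.1, hy.1.2.2, hy.2.1, hy.2.2.1⟩, hy.1.2.1⟩⟩
    have := Set.ncard_sdiff_singleton_add_one (h.mem_cl3 (x := a) (Or.inl rfl)) (Set.toFinite _)
    rw [hset, h21, ncard_cl3 S h] at this
    omega
  have habc : ({a, b, c} : Set G) ⊆ six D a b c := by
    rintro y (rfl | rfl | rfl)
    exacts [h.mem_six (Or.inl rfl), h.mem_six (Or.inr (Or.inl rfl)), h.mem_six (Or.inr (Or.inr rfl))]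
  have h3 : ({a, b, c} : Set G).ncard = 3 :=
    Set.ncard_eq_three.mpr ⟨a, b, c, h.nab, h.nac, h.nbc, rfl⟩
  have hdiff : (six D a b c \ {a, b, c}).ncard = 3 := by
    have := Set.ncard_sdiff_add_ncard_of_subset habc (Set.toFinite _)
    rw [ncard_six S h, h3] at this
    omega
  by_cases heL : e ∈ L
  · exfalso
    by_cases hLf : L.Finite
    · have heq := Set.eq_of_subset_of_ncard_le key (by rw [hdiff]; exact hL) hLf
      rw [← heq] at heL
      exact he' heL.1
    · exact hLf (Set.toFinite _)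
  have hea : e ≠ a := fun hh => he' (hh ▸ h.mem_six (Or.inl rfl))
  have heb : e ≠ b := fun hh => he' (hh ▸ h.mem_six (Or.inr (Or.inl rfl)))
  have hec : e ≠ c := fun hh => he' (hh ▸ h.mem_six (Or.inr (Or.inr rfl)))
  obtain ⟨h21, hcl⟩ := hplane e ⟨he.1, hea, he.2.1⟩ heb hec he.2.2.1 he.2.2.2 heL
  have hset : block D a b c e =
      insert a {y | y ∈ perp D a ∧ Commute b y ∧ Commute c y ∧ Commute e y} := by
    ext y
    constructor
    · intro hy
      by_cases h1 : y = a
      · exact Or.inl h1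
      · exact Or.inr ⟨⟨hy.1.1, h1, hy.1.2.1⟩, hy.1.2.2.1, hy.1.2.2.2, hy.2⟩
    · rintro (rfl | hy)
      · exact ⟨h.mem_cl3 (Or.inl rfl), he.2.1.symm⟩
      · exact ⟨⟨hy.1.1, hy.1.2.2, hy.2.1, hy.2.2.1⟩, hy.2.2.2⟩
  refine ⟨?_, ?_⟩
  · rw [hset, Set.ncard_insert_of_notMem (fun hy => hy.1.2.1 rfl) (Set.toFinite _), h21]
  · rw [hset]
    rintro y (rfl | hy) z (rfl | hz)
    · exact Commute.refl _
    · exact hz.1.2.2
    · exact hy.1.2.2.symm
    · exact hcl y hy.1 hy.2.1 hy.2.2.1 hy.2.2.2 z hz.1 hz.2.1 hz.2.2.1 hz.2.2.2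

include S in
/-- the clique contains the six of any three of its members -/
theorem six_subset_block {a b c e p q r : G} (h : Tri D a b c) (he : e ∈ cl3 D a b c) (he' : e ∉ six D a b c)
    (hp : p ∈ block D a b c e) (hq : q ∈ block D a b c e) (hr : r ∈ block D a b c e) :
    six D p q r ⊆ block D a b c e := by
  obtain ⟨-, hcl⟩ := block_spec S h he he'
  have hin : ∀ {y}, y ∈ block D a b c e → y ∈ cl3 D p q r := fun {y} hy =>
    ⟨hy.1.1, hcl p hp y hy, hcl q hq y hy, hcl r hr y hy⟩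
  have ha : a ∈ block D a b c e := ⟨h.mem_cl3 (Or.inl rfl), he.2.1.symm⟩
  have hb : b ∈ block D a b c e := ⟨h.mem_cl3 (Or.inr (Or.inl rfl)), he.2.2.1.symm⟩
  have hc : c ∈ block D a b c e := ⟨h.mem_cl3 (Or.inr (Or.inr rfl)), he.2.2.2.symm⟩
  have hee : e ∈ block D a b c e := ⟨he, Commute.refl e⟩
  intro x hx
  exact ⟨⟨hx.1.1, (hx.2 a (hin ha)).symm, (hx.2 b (hin hb)).symm, (hx.2 c (hin hc)).symm⟩,
    (hx.2 e (hin hee)).symm⟩

end Cfsg.Agent.Lib.FischerMTypes.Aut22
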