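import Mathlib

/-!
A graph on 45 points of degree 12 in which adjacent points have three common neighbours, forming a
clique with them, has no involution moving points to neighbours only, unless some moved pair has
three fixed common neighbours.
-/

set_option autoImplicit false
set_option linter.style.haveILetI false
set_option linter.unusedSectionVars false

namespace Cfsg.Agent.Lib.FischerMTypes.Aut22

section Invol

variable {α : Type*} [DecidableEq α]

theorem even_moved (s : Finset α) (σ : α → α) (hs : ∀ x ∈ s, σ x ∈ s) (hi : ∀ x ∈ s, σ (σ x) = x) :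
    2 ∣ (s.filter fun x => σ x ≠ x).card := by
  rw [← ZMod.natCast_eq_zero_iff, ← Finset.sum_boole]
  refine Finset.sum_involution (fun x _ => σ x) (fun x hx => ?_) (fun x hx h => ?_) (fun x hx => hs x hx) hi
  · by_cases h : σ x = x
    · rw [if_neg (not_not_intro h), if_neg (by rw [h]; exact not_not_intro h)]
      rfl
    · rw [if_pos h, if_pos (by rw [hi x hx]; exact Ne.symm h)]
      decide
  · by_contra he
    exact h (if_neg (not_not_intro he))

end Invol

/-- graph with lines of five points -/
structure Quad (V : Type*) [Fintype V] [DecidableEq V] (R : V → V → Prop) [DecidableRel R] : Prop where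
  card : Fintype.card V = 45
  symm : ∀ x y, R x y → R y x
  irrefl : ∀ x, ¬ R x x
  deg : ∀ x, (Finset.univ.filter fun y => R x y).card = 12
  three : ∀ x y, R x y → (Finset.univ.filter fun z => R x z ∧ R y z).card = 3
  clique : ∀ x y z w, R x y → R x z → R y z → R x w → R y w → z ≠ w → R z w

namespace Quad

variable {V : Type*} [Fintype V] [DecidableEq V] {R : V → V → Prop} [DecidableRel R] (Q : Quad V R)

/-- the line of an edge -/
def line (x y : V) : Finset V :=
  insert x (insert y (Finset.univ.filter fun z => R x z ∧ R y z))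

include Q in
theorem line_card {x y : V} (h : R x y) : (line (R := R) x y).card = 5 := by
  rw [line, Finset.card_insert_of_notMem, Finset.card_insert_of_notMem, Q.three x y h]
  · simp [Q.irrefl]
  · simp [Q.irrefl, show x ≠ y from fun e => Q.irrefl x (e ▸ h)]

include Q in
theorem line_adj {x y u v : V} (h : R x y) (hu : u ∈ line (R := R) x y) (hv : v ∈ line (R := R) x y)
    (hne : u ≠ v) : R u v := by
  simp only [line, Finset.mem_insert, Finset.mem_filter, Finset.mem_univ, true_and] at hu hv
  rcases hu with rfl | rfl | ⟨u1, u2⟩ <;> rcases hv with rfl | rfl | ⟨v1, v2⟩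
  all_goals first
    | exact absurd rfl hne
    | assumption
    | exact Q.symm _ _ (by assumption)
    | exact Q.clique x y u v h u1 u2 v1 v2 hne

include Q in
theorem mem_line_of_two {x y u v p : V} (h : R x y) (hu : u ∈ line (R := R) x y)
    (hv : v ∈ line (R := R) x y) (hne : u ≠ v) (hpu : R p u) (hpv : R p v) :
    p ∈ line (R := R) x y := by
  have hsub : ((line (R := R) x y).erase u).erase v ⊆ Finset.univ.filter fun z => R u z ∧ R v z := by
    intro z hz
    simp only [Finset.mem_erase] at hz
    simp only [Finset.mem_filter, Finset.mem_univ, true_and]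
    exact ⟨Q.line_adj h hu hz.2.2 (Ne.symm hz.2.1), Q.line_adj h hv hz.2.2 (Ne.symm hz.1)⟩
  have hcard : (((line (R := R) x y).erase u).erase v).card = 3 := by
    rw [Finset.card_erase_of_mem (Finset.mem_erase.mpr ⟨Ne.symm hne, hv⟩), Finset.card_erase_of_mem hu,
      Q.line_card h]
  have heq := Finset.eq_of_subset_of_card_le hsub (by rw [hcard, Q.three u v (Q.line_adj h hu hv hne)])
  have hp : p ∈ Finset.univ.filter fun z => R u z ∧ R v z := by simp [Q.symm _ _ hpu, Q.symm _ _ hpv]
  rw [← heq] at hp
  exact Finset.mem_of_mem_erase (Finset.mem_of_mem_erase hp)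

include Q in
/-- a point off a line has one neighbour on it -/
theorem proj {x y p : V} (h : R x y) (hp : p ∉ line (R := R) x y) :
    ((line (R := R) x y).filter fun u => R p u).card = 1 := by
  set L := line (R := R) x y
  have hle : ∀ q ∈ Lᶜ, (L.filter fun u => R q u).card ≤ 1 := by
    intro q hq
    rw [Finset.card_le_one]
    intro u hu v hv
    simp only [Finset.mem_filter] at hu hv
    by_contra hne
    exact (Finset.mem_compl.mp hq) (Q.mem_line_of_two h hu.1 hv.1 hne hu.2 hv.2)
  have hout : ∀ u ∈ L, (Lᶜ.filter fun q => R q u).card = 8 := by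
    intro u hu
    have h1 : (Finset.univ.filter fun q => R u q) = (Lᶜ.filter fun q => R q u) ∪ L.erase u := by
      ext q
      simp only [Finset.mem_filter, Finset.mem_univ, true_and, Finset.mem_union, Finset.mem_compl,
        Finset.mem_erase]
      constructor
      · intro hq
        by_cases hqL : q ∈ L
        · exact Or.inr ⟨fun e => Q.irrefl u (e ▸ hq), hqL⟩
        · exact Or.inl ⟨hqL, Q.symm _ _ hq⟩
      · rintro (⟨-, hq⟩ | ⟨hne, hqL⟩)
        · exact Q.symm _ _ hq
        · exact Q.line_adj h hu hqL (Ne.symm hne)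
    have h2 := Q.deg u
    rw [h1, Finset.card_union_of_disjoint, Finset.card_erase_of_mem hu, Q.line_card h] at h2
    · omega
    · rw [Finset.disjoint_left]
      intro q hq hq'
      exact (Finset.mem_compl.mp (Finset.mem_filter.mp hq).1) (Finset.mem_of_mem_erase hq')
  have hsum : ∑ q ∈ Lᶜ, (L.filter fun u => R q u).card = 40 := by
    have e := Finset.sum_card_bipartiteAbove_eq_sum_card_bipartiteBelow (fun q u => R q u) (s := Lᶜ) (t := L)
    simp only [Finset.bipartiteAbove, Finset.bipartiteBelow] at e
    rw [e, Finset.sum_congr rfl hout, Finset.sum_const, Q.line_card h, smul_eq_mul]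
  have hc : Lᶜ.card = 40 := by rw [Finset.card_compl, Q.card, Q.line_card h]
  refine le_antisymm (hle p (Finset.mem_compl.mpr hp)) ?_
  by_contra h0
  push Not at h0
  have := Finset.sum_lt_sum hle ⟨p, Finset.mem_compl.mpr hp, h0⟩
  rw [hsum, Finset.sum_const, hc, smul_eq_mul] at this
  omega

include Q in
/-- two non-adjacent points have three common neighbours -/
theorem three_of_not_adj {x z : V} (hxz : x ≠ z) (h : ¬ R x z) :
    (Finset.univ.filter fun u => R x u ∧ R z u).card = 3 := by
  set C := Finset.univ.filter fun u => R x u ∧ R z u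
  set N := Finset.univ.filter fun y => R x y
  have hone : ∀ y ∈ N, (C.filter fun u => u ∈ line (R := R) x y).card = 1 := by
    intro y hy
    simp only [N, Finset.mem_filter, Finset.mem_univ, true_and] at hy
    have hz : z ∉ line (R := R) x y := fun hz => h (Q.line_adj hy (Finset.mem_insert_self _ _) hz hxz)
    rw [← Q.proj hy hz]
    congr 1
    ext u
    simp only [C, Finset.mem_filter, Finset.mem_univ, true_and]
    constructor
    · exact fun hu => ⟨hu.2, hu.1.2⟩
    · rintro ⟨hu, hzu⟩
      refine ⟨⟨Q.line_adj hy (Finset.mem_insert_self _ _) hu fun e => ?_, hzu⟩, hu⟩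
      exact h (Q.symm _ _ (e ▸ hzu))
  have hfour : ∀ u ∈ C, (N.filter fun y => u ∈ line (R := R) x y).card = 4 := by
    intro u hu
    simp only [C, Finset.mem_filter, Finset.mem_univ, true_and] at hu
    have : (N.filter fun y => u ∈ line (R := R) x y) =
        insert u (Finset.univ.filter fun y => R x y ∧ R u y) := by
      ext y
      simp only [N, Finset.mem_filter, Finset.mem_univ, true_and, line, Finset.mem_insert]
      constructor
      · rintro ⟨hy, rfl | rfl | ⟨-, hyu⟩⟩
        · exact absurd hu.1 (Q.irrefl _)
        · exact Or.inl rfl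
        · exact Or.inr ⟨hy, Q.symm _ _ hyu⟩
      · rintro (rfl | ⟨hy, huy⟩)
        · exact ⟨hu.1, Or.inr (Or.inl rfl)⟩
        · exact ⟨hy, Or.inr (Or.inr ⟨hu.1, Q.symm _ _ huy⟩)⟩
    rw [this, Finset.card_insert_of_notMem (by simp [Q.irrefl]), Q.three x u hu.1]
  have e := Finset.sum_card_bipartiteAbove_eq_sum_card_bipartiteBelow
    (fun y u => u ∈ line (R := R) x y) (s := N) (t := C)
  simp only [Finset.bipartiteAbove, Finset.bipartiteBelow] at e
  rw [Finset.sum_congr rfl hone, Finset.sum_congr rfl hfour, Finset.sum_const, Finset.sum_const,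
    show N.card = 12 from Q.deg x, smul_eq_mul, smul_eq_mul] at e
  omega

include Q in
/-- three divides the number of points moved to neighbours -/
theorem three_dvd_moved {σ : V → V} (hi : ∀ x, σ (σ x) = x) (hR : ∀ x y, R x y → R (σ x) (σ y))
    (hadj : ∀ x, σ x ≠ x → R x (σ x)) : 3 ∣ (Finset.univ.filter fun x => σ x ≠ x).card := by
  have hR' : ∀ x y, R (σ x) y ↔ R x (σ y) := fun x y =>
    ⟨fun h => by simpa [hi] using hR _ _ h, fun h => by simpa [hi] using hR _ _ h⟩
  set M : Matrix V V (ZMod 3) := Matrix.of fun x y => if R (σ x) y then 1 else 0 with hM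
  have hsq : M * M = 0 := by
    ext x z
    simp only [Matrix.mul_apply, hM, Matrix.of_apply, Matrix.zero_apply, ite_mul, one_mul, zero_mul]
    have : ∀ y, (if R (σ x) y then (if R (σ y) z then (1 : ZMod 3) else 0) else 0) =
        if R (σ x) y ∧ R (σ z) y then 1 else 0 := by
      intro y
      by_cases h1 : R (σ x) y
      · by_cases h2 : R (σ y) z
        · simp [h1, h2, Q.symm _ _ ((hR' y z).mp h2)]
        · have : ¬ R (σ z) y := fun h3 => h2 ((hR' y z).mpr (Q.symm _ _ h3))
          simp [h1, h2, this]
      · simp [h1]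
    simp only [this, Finset.sum_boole]
    rw [ZMod.natCast_eq_zero_iff]
    by_cases he : σ x = σ z
    · rw [he, show (Finset.univ.filter fun y => R (σ z) y ∧ R (σ z) y) =
        Finset.univ.filter fun y => R (σ z) y by ext; simp, Q.deg]
      norm_num
    by_cases hA : R (σ x) (σ z)
    · rw [Q.three _ _ hA]
    · rw [Q.three_of_not_adj he hA]
  have htr : M.trace = 0 :=
    (Matrix.isNilpotent_trace_of_isNilpotent ⟨2, by rw [sq]; exact hsq⟩).eq_zero
  have hcount : M.trace = ((Finset.univ.filter fun x => σ x ≠ x).card : ZMod 3) := by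
    simp only [Matrix.trace, Matrix.diag, hM, Matrix.of_apply, Finset.sum_boole]
    congr 2
    ext x
    simp only [Finset.mem_filter, Finset.mem_univ, true_and]
    exact ⟨fun h e => Q.irrefl x (by rwa [e] at h), fun h => Q.symm _ _ (hadj x h)⟩
  rw [hcount, ZMod.natCast_eq_zero_iff] at htr
  exact htr

include Q in
/-- the involution is trivial -/
theorem trivial_of {σ : V → V} (hi : ∀ x, σ (σ x) = x) (hR : ∀ x y, R x y → R (σ x) (σ y))
    (hadj : ∀ x, σ x ≠ x → R x (σ x))
    (hthree : ∀ x, σ x ≠ x → ∃ z, R x z ∧ R (σ x) z ∧ σ z ≠ z) : ∀ x, σ x = x := by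
  by_contra hcon
  push Not at hcon
  obtain ⟨x₀, hx₀⟩ := hcon
  set W := Finset.univ.filter fun x => σ x ≠ x
  set F := Finset.univ.filter fun x => σ x = x
  have hFW : F.card + W.card = 45 := by
    rw [← Q.card, ← Finset.card_univ]
    exact Finset.card_filter_add_card_filter_not (s := Finset.univ) (fun x => σ x = x)
  have h3 : 3 ∣ W.card := Q.three_dvd_moved hi hR hadj
  have h2 : 2 ∣ W.card := even_moved Finset.univ σ (fun _ _ => Finset.mem_univ _) fun x _ => hi x
  -- the fixed common neighbour
  have hq : ∀ x, σ x ≠ x → ∃ q, σ q = q ∧ R x q ∧ R (σ x) q ∧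
      ∀ p, R x p → R (σ x) p → σ p = p → p = q := by
    intro x hx
    set T := Finset.univ.filter fun z => R x z ∧ R (σ x) z
    have hT : T.card = 3 := Q.three _ _ (hadj x hx)
    have hTs : ∀ z ∈ T, σ z ∈ T := by
      intro z hz
      simp only [T, Finset.mem_filter, Finset.mem_univ, true_and] at hz ⊢
      exact ⟨by simpa [hi] using hR _ _ hz.2, hR _ _ hz.1⟩
    have he := even_moved T σ hTs fun z _ => hi z
    have hsplit := Finset.card_filter_add_card_filter_not (s := T) (fun z => σ z = z)
    obtain ⟨z, z1, z2, z3⟩ := hthree x hx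
    have hpos : 0 < (T.filter fun z => σ z ≠ z).card :=
      Finset.card_pos.mpr ⟨z, by simp [T, z1, z2, z3]⟩
    have hone : (T.filter fun z => σ z = z).card = 1 := by
      simp only [← ne_eq] at hsplit
      omega
    obtain ⟨q, hq⟩ := Finset.card_eq_one.mp hone
    have hqm : q ∈ T.filter fun z => σ z = z := by rw [hq]; exact Finset.mem_singleton_self q
    simp only [T, Finset.mem_filter, Finset.mem_univ, true_and] at hqm
    refine ⟨q, hqm.2, hqm.1.1, hqm.1.2, fun p p1 p2 p3 => ?_⟩
    have : p ∈ T.filter fun z => σ z = z := by simp [T, p1, p2, p3]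
    rw [hq] at this
    exact Finset.mem_singleton.mp this
  choose! q hqf hqx hqσ hqu using hq
  -- every fixed point is that point or adjacent to it
  have hnear : ∀ x, σ x ≠ x → ∀ p, σ p = p → p = q x ∨ R p (q x) := by
    intro x hx p hp
    by_cases hpL : p ∈ line (R := R) x (σ x)
    · simp only [line, Finset.mem_insert, Finset.mem_filter, Finset.mem_univ, true_and] at hpL
      rcases hpL with rfl | rfl | ⟨p1, p2⟩
      · exact absurd hp hx
      · exact absurd (by rw [hi] at hp; exact hp.symm) hx
      · exact Or.inl (hqu x hx p p1 p2 hp)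
    · right
      obtain ⟨u, hu⟩ := Finset.card_eq_one.mp (Q.proj (hadj x hx) hpL)
      have hum : u ∈ line (R := R) x (σ x) ∧ R p u := by
        have : u ∈ (line (R := R) x (σ x)).filter fun v => R p v := by
          rw [hu]; exact Finset.mem_singleton_self u
        simpa [Finset.mem_filter] using this
      have hsu : σ u = u := by
        refine Finset.mem_singleton.mp (hu ▸ Finset.mem_filter.mpr ⟨?_, hp ▸ hR _ _ hum.2⟩)
        have := hum.1
        simp only [line, Finset.mem_insert, Finset.mem_filter, Finset.mem_univ, true_and] at this ⊢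
        rcases this with rfl | rfl | ⟨a1, a2⟩
        · exact Or.inr (Or.inl rfl)
        · exact Or.inl (hi x)
        · exact Or.inr (Or.inr ⟨by simpa [hi] using hR _ _ a2, hR _ _ a1⟩)
      have h1 := hum.1
      simp only [line, Finset.mem_insert, Finset.mem_filter, Finset.mem_univ, true_and] at h1
      rcases h1 with rfl | rfl | ⟨a1, a2⟩
      · exact absurd hsu hx
      · exact absurd (by rw [hi] at hsu; exact hsu.symm) hx
      · exact (hqu x hx u a1 a2 hsu) ▸ hum.2
  by_cases hall : ∀ x, σ x ≠ x → q x = q x₀
  · have hW : W ⊆ Finset.univ.filter fun y => R (q x₀) y := by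
      intro x hx
      simp only [W, Finset.mem_filter, Finset.mem_univ, true_and] at hx ⊢
      exact hall x hx ▸ Q.symm _ _ (hqx x hx)
    have hF : F ⊆ insert (q x₀) (Finset.univ.filter fun y => R (q x₀) y) := by
      intro p hp
      simp only [F, Finset.mem_filter, Finset.mem_univ, true_and] at hp
      simp only [Finset.mem_insert, Finset.mem_filter, Finset.mem_univ, true_and]
      exact (hnear x₀ hx₀ p hp).imp_right (Q.symm _ _)
    have := Finset.card_le_card hW
    have := (Finset.card_le_card hF).trans (Finset.card_insert_le _ _)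
    rw [Q.deg] at *
    omega
  · push Not at hall
    obtain ⟨x₁, hx₁, hne⟩ := hall
    have hadj12 : R (q x₁) (q x₀) := ((hnear x₀ hx₀ _ (hqf x₁ hx₁)).resolve_left hne)
    have hF : F ⊆ line (R := R) (q x₁) (q x₀) := by
      intro p hp
      simp only [F, Finset.mem_filter, Finset.mem_univ, true_and] at hp
      simp only [line, Finset.mem_insert, Finset.mem_filter, Finset.mem_univ, true_and]
      rcases hnear x₁ hx₁ p hp with h1 | h1
      · exact Or.inl h1
      rcases hnear x₀ hx₀ p hp with h0 | h0
      · exact Or.inr (Or.inl h0)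
      · exact Or.inr (Or.inr ⟨Q.symm _ _ h1, Q.symm _ _ h0⟩)
    have h5 := Finset.card_le_card hF
    rw [Q.line_card hadj12] at h5
    have hW : W ⊆ F.biUnion fun p => Finset.univ.filter fun y => R p y := by
      intro x hx
      simp only [W, Finset.mem_filter, Finset.mem_univ, true_and] at hx
      simp only [Finset.mem_biUnion, Finset.mem_filter, Finset.mem_univ, true_and]
      exact ⟨q x, by simp [F, hqf x hx], Q.symm _ _ (hqx x hx)⟩
    have h36 := (Finset.card_le_card hW).trans Finset.card_biUnion_le
    rw [Finset.sum_congr rfl fun p _ => Q.deg p, Finset.sum_const, smul_eq_mul] at h36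
    omega

end Quad

end Cfsg.Agent.Lib.FischerMTypes.Aut22
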