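import Mathlib
import Cfsg.Agent.Lib.FischerMTypes.Aut22.Quadrangle

/-!
Systems of six-subsets of 22 points covering every triple once, with an involution without fixed
points: the number of invariant blocks on a point is never three, and cannot always be five.
-/

set_option autoImplicit false
set_option linter.style.haveILetI false
set_option linter.unusedSectionVars false

namespace Cfsg.Agent.Lib.FischerMTypes.Aut22

/-- every triple in exactly one block of six -/
structure TripleSystem {α : Type*} [Fintype α] [DecidableEq α] (𝓑 : Finset (Finset α)) : Prop where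
  card : Fintype.card α = 22
  size : ∀ B ∈ 𝓑, B.card = 6
  cover : ∀ p q r : α, p ≠ q → p ≠ r → q ≠ r → ∃ B ∈ 𝓑, p ∈ B ∧ q ∈ B ∧ r ∈ B
  unique : ∀ B ∈ 𝓑, ∀ C ∈ 𝓑, ∀ p q r : α, p ≠ q → p ≠ r → q ≠ r → p ∈ B → q ∈ B → r ∈ B →
    p ∈ C → q ∈ C → r ∈ C → B = C

namespace TripleSystem

variable {α : Type*} [Fintype α] [DecidableEq α] {𝓑 : Finset (Finset α)} (T : TripleSystem 𝓑)

include T in
theorem inter_le {B C : Finset α} (hB : B ∈ 𝓑) (hC : C ∈ 𝓑) (hne : B ≠ C) : (B ∩ C).card ≤ 2 := by
  by_contra h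
  push Not at h
  obtain ⟨p, q, r, hp, hq, hr, h1, h2, h3⟩ := Finset.two_lt_card_iff.mp h
  simp only [Finset.mem_inter] at hp hq hr
  exact hne (T.unique B hB C hC p q r h1 h2 h3 hp.1 hq.1 hr.1 hp.2 hq.2 hr.2)

include T in
/-- a pair lies in five blocks -/
theorem pair_five {p q : α} (hpq : p ≠ q) : (𝓑.filter fun B => p ∈ B ∧ q ∈ B).card = 5 := by
  set P := 𝓑.filter fun B => p ∈ B ∧ q ∈ B
  set R := ((Finset.univ : Finset α).erase p).erase q
  have hR : R.card = 20 := by
    rw [Finset.card_erase_of_mem (by simp [Ne.symm hpq]), Finset.card_erase_of_mem (Finset.mem_univ p),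
      Finset.card_univ, T.card]
  have hone : ∀ r ∈ R, (P.filter fun B => r ∈ B).card = 1 := by
    intro r hr
    simp only [R, Finset.mem_erase, Finset.mem_univ, and_true] at hr
    obtain ⟨B, hB, h1, h2, h3⟩ := T.cover p q r hpq (Ne.symm hr.2) (Ne.symm hr.1)
    rw [Finset.card_eq_one]
    refine ⟨B, Finset.eq_singleton_iff_unique_mem.mpr ⟨by simp [P, hB, h1, h2, h3], fun C hC => ?_⟩⟩
    simp only [P, Finset.mem_filter] at hC
    exact T.unique C hC.1.1 B hB p q r hpq (Ne.symm hr.2) (Ne.symm hr.1) hC.1.2.1 hC.1.2.2 hC.2 h1 h2 h3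
  have hfour : ∀ B ∈ P, (R.filter fun r => r ∈ B).card = 4 := by
    intro B hB
    simp only [P, Finset.mem_filter] at hB
    have : (R.filter fun r => r ∈ B) = (B.erase p).erase q := by
      ext r
      simp [R, and_assoc]
    rw [this, Finset.card_erase_of_mem (Finset.mem_erase.mpr ⟨Ne.symm hpq, hB.2.2⟩),
      Finset.card_erase_of_mem hB.2.1, T.size B hB.1]
  have e := Finset.sum_card_bipartiteAbove_eq_sum_card_bipartiteBelow
    (fun r B => r ∈ B) (s := R) (t := P)
  simp only [Finset.bipartiteAbove, Finset.bipartiteBelow] at e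
  rw [Finset.sum_congr rfl hone, Finset.sum_congr rfl hfour, Finset.sum_const, Finset.sum_const, hR,
    smul_eq_mul, smul_eq_mul] at e
  omega

include T in
/-- a point lies in 21 blocks -/
theorem point_count (p : α) : (𝓑.filter fun B => p ∈ B).card = 21 := by
  set P := 𝓑.filter fun B => p ∈ B
  set R := (Finset.univ : Finset α).erase p
  have hR : R.card = 21 := by rw [Finset.card_erase_of_mem (Finset.mem_univ p), Finset.card_univ, T.card]
  have hfive : ∀ q ∈ R, (P.filter fun B => q ∈ B).card = 5 := by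
    intro q hq
    rw [Finset.filter_filter, T.pair_five (Ne.symm (Finset.mem_erase.mp hq).1)]
  have hfive' : ∀ B ∈ P, (R.filter fun q => q ∈ B).card = 5 := by
    intro B hB
    simp only [P, Finset.mem_filter] at hB
    have : (R.filter fun q => q ∈ B) = B.erase p := by ext q; simp [R]
    rw [this, Finset.card_erase_of_mem hB.2, T.size B hB.1]
  have e := Finset.sum_card_bipartiteAbove_eq_sum_card_bipartiteBelow
    (fun q B => q ∈ B) (s := R) (t := P)
  simp only [Finset.bipartiteAbove, Finset.bipartiteBelow] at e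
  rw [Finset.sum_congr rfl hfive, Finset.sum_congr rfl hfive', Finset.sum_const, Finset.sum_const, hR,
    smul_eq_mul, smul_eq_mul] at e
  omega

include T in
/-- two blocks through a point share a second one -/
theorem inter_two {B C : Finset α} (hB : B ∈ 𝓑) (hC : C ∈ 𝓑) (hne : B ≠ C) {p : α} (hpB : p ∈ B)
    (hpC : p ∈ C) : (B ∩ C).card = 2 := by
  set P := (𝓑.filter fun C => p ∈ C).erase B
  set R := B.erase p
  have hRc : R.card = 5 := by rw [Finset.card_erase_of_mem hpB, T.size B hB]
  have hP : P.card = 20 := by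
    rw [Finset.card_erase_of_mem (by simp [hB, hpB]), T.point_count]
  have hfour : ∀ q ∈ R, (P.filter fun C => q ∈ C).card = 4 := by
    intro q hq
    obtain ⟨hqp, hqB⟩ := Finset.mem_erase.mp hq
    have : (P.filter fun C => q ∈ C) = (𝓑.filter fun C => p ∈ C ∧ q ∈ C).erase B := by
      ext C'
      simp [P, and_assoc]
    rw [this, Finset.card_erase_of_mem (by simp [hB, hpB, hqB]), T.pair_five (Ne.symm hqp)]
  have hle : ∀ C' ∈ P, (R.filter fun q => q ∈ C').card ≤ 1 := by
    intro C' hC'
    simp only [P, Finset.mem_erase, Finset.mem_filter] at hC'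
    have : (R.filter fun q => q ∈ C') = (B ∩ C').erase p := by ext q; simp [R, and_assoc]
    rw [this, Finset.card_erase_of_mem (by simp [hpB, hC'.2.2])]
    have := T.inter_le hB hC'.2.1 (Ne.symm hC'.1)
    omega
  have e := Finset.sum_card_bipartiteAbove_eq_sum_card_bipartiteBelow
    (fun q C => q ∈ C) (s := R) (t := P)
  simp only [Finset.bipartiteAbove, Finset.bipartiteBelow] at e
  rw [Finset.sum_congr rfl hfour, Finset.sum_const, hRc, smul_eq_mul] at e
  refine le_antisymm (T.inter_le hB hC hne) ?_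
  by_contra h
  push Not at h
  have hCP : C ∈ P := by simp [P, hC, hpC, Ne.symm hne]
  have : (R.filter fun q => q ∈ C).card < 1 := by
    have : (R.filter fun q => q ∈ C) = (B ∩ C).erase p := by ext q; simp [R, and_assoc]
    rw [this, Finset.card_erase_of_mem (by simp [hpB, hpC])]
    omega
  have := Finset.sum_lt_sum hle ⟨C, hCP, this⟩
  rw [← e, Finset.sum_const, hP, smul_eq_mul] at this
  omega

/-- the blocks disjoint from `H` -/
abbrev away (𝓑 : Finset (Finset α)) (H : Finset α) : Finset (Finset α) :=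
  𝓑.filter fun B => Disjoint B H

include T in
theorem away_meet {H B : Finset α} (hH : H ∈ 𝓑) (hB : B ∈ 𝓑) :
    ¬ Disjoint B H ↔ B = H ∨ (B ∩ H).card = 2 := by
  constructor
  · intro h
    obtain ⟨p, hpB, hpH⟩ := Finset.not_disjoint_iff.mp h
    by_cases he : B = H
    · exact Or.inl he
    · exact Or.inr (T.inter_two hB hH he hpB hpH)
  · rintro (rfl | h) hd
    · have := T.size B hB
      rw [(disjoint_self.mp hd)] at this
      simp at this
    · rw [Finset.disjoint_iff_inter_eq_empty.mp hd] at h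
      simp at h

include T in
/-- six disjoint blocks through a point outside -/
theorem away_point {H : Finset α} (hH : H ∈ 𝓑) {w : α} (hw : w ∉ H) :
    ((away 𝓑 H).filter fun B => w ∈ B).card = 6 := by
  set P := 𝓑.filter fun B => w ∈ B
  set M := P.filter fun B => ¬ Disjoint B H
  have hsplit := Finset.card_filter_add_card_filter_not (s := P) (fun B => Disjoint B H)
  have hAw : (P.filter fun B => Disjoint B H) = (away 𝓑 H).filter fun B => w ∈ B := by
    ext B; simp [P, away, and_comm, and_left_comm]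
  rw [hAw, T.point_count] at hsplit
  -- the blocks through `w` meeting `H` correspond to its pairs
  have hM : M.card = 15 := by
    have h15 : (H.powersetCard 2).card = 15 := by rw [Finset.card_powersetCard, T.size H hH]; rfl
    rw [← h15]
    refine Finset.card_bij (fun B _ => B ∩ H) ?_ ?_ ?_
    · intro B hB
      simp only [M, P, Finset.mem_filter] at hB
      rw [Finset.mem_powersetCard]
      refine ⟨Finset.inter_subset_right, ?_⟩
      exact ((T.away_meet hH hB.1.1).mp hB.2).resolve_left fun e => hw (e ▸ hB.1.2)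
    · intro B hB C hC he
      simp only [M, P, Finset.mem_filter] at hB hC
      have h2 := ((T.away_meet hH hB.1.1).mp hB.2).resolve_left fun e => hw (e ▸ hB.1.2)
      obtain ⟨u, v, huv, huvs⟩ := Finset.card_eq_two.mp h2
      have hu : u ∈ B ∩ H := by rw [huvs]; simp
      have hv : v ∈ B ∩ H := by rw [huvs]; simp
      have hu' : u ∈ C ∩ H := he ▸ hu
      have hv' : v ∈ C ∩ H := he ▸ hv
      simp only [Finset.mem_inter] at hu hv hu' hv'
      exact T.unique B hB.1.1 C hC.1.1 u v w huv (fun e => hw (e ▸ hu.2)) (fun e => hw (e ▸ hv.2))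
        hu.1 hv.1 hB.1.2 hu'.1 hv'.1 hC.1.2
    · intro s hs
      rw [Finset.mem_powersetCard] at hs
      obtain ⟨u, v, huv, rfl⟩ := Finset.card_eq_two.mp hs.2
      have huH : u ∈ H := hs.1 (by simp)
      have hvH : v ∈ H := hs.1 (by simp)
      obtain ⟨B, hB, h1, h2, h3⟩ := T.cover u v w huv (fun e => hw (e ▸ huH)) (fun e => hw (e ▸ hvH))
      refine ⟨B, by simpa [M, P, hB, h3] using Finset.not_disjoint_iff.mpr ⟨u, h1, huH⟩, ?_⟩
      refine (Finset.eq_of_subset_of_card_le ?_ ?_).symm
      · intro y hy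
        simp only [Finset.mem_insert, Finset.mem_singleton] at hy
        rcases hy with rfl | rfl <;> simp [*]
      · rw [hs.2]
        exact T.inter_le hB hH fun e => hw (e ▸ h3)
  simp only [M] at hM
  omega

include T in
theorem away_card {H : Finset α} (hH : H ∈ 𝓑) : (away 𝓑 H).card = 16 := by
  have hc : Hᶜ.card = 16 := by rw [Finset.card_compl, T.card, T.size H hH]
  have e := Finset.sum_card_bipartiteAbove_eq_sum_card_bipartiteBelow
    (fun w B => w ∈ B) (s := Hᶜ) (t := away 𝓑 H)
  simp only [Finset.bipartiteAbove, Finset.bipartiteBelow] at e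
  have hsix : ∀ B ∈ away 𝓑 H, (Hᶜ.filter fun w => w ∈ B).card = 6 := by
    intro B hB
    simp only [away, Finset.mem_filter] at hB
    have : (Hᶜ.filter fun w => w ∈ B) = B := by
      ext w
      simp only [Finset.mem_filter, Finset.mem_compl]
      exact ⟨fun h => h.2, fun h => ⟨Finset.disjoint_left.mp hB.2 h, h⟩⟩
    rw [this, T.size B hB.1]
  rw [Finset.sum_congr rfl fun w hw => T.away_point hH (Finset.mem_compl.mp hw),
    Finset.sum_congr rfl hsix, Finset.sum_const, Finset.sum_const, hc, smul_eq_mul, smul_eq_mul] at e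
  omega

include T in
/-- two blocks disjoint from a third meet in two points -/
theorem away_inter {H B C : Finset α} (hH : H ∈ 𝓑) (hB : B ∈ away 𝓑 H) (hC : C ∈ away 𝓑 H) (hne : B ≠ C) :
    (B ∩ C).card = 2 := by
  simp only [away, Finset.mem_filter] at hB hC
  set P := (away 𝓑 H).erase B
  have hP : P.card = 15 := by
    rw [Finset.card_erase_of_mem (by simp [away, hB.1, hB.2]), T.away_card hH]
  have hfive : ∀ w ∈ B, (P.filter fun C => w ∈ C).card = 5 := by
    intro w hw
    rw [Finset.filter_erase, Finset.card_erase_of_mem (by simp [away, hB.1, hB.2, hw]),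
      T.away_point hH (Finset.disjoint_left.mp hB.2 hw)]
  have hle : ∀ C' ∈ P, (B.filter fun w => w ∈ C').card ≤ 2 := by
    intro C' hC'
    simp only [P, away, Finset.mem_erase, Finset.mem_filter] at hC'
    rw [Finset.filter_mem_eq_inter]
    exact T.inter_le hB.1 hC'.2.1 (Ne.symm hC'.1)
  have e := Finset.sum_card_bipartiteAbove_eq_sum_card_bipartiteBelow
    (fun w C => w ∈ C) (s := B) (t := P)
  simp only [Finset.bipartiteAbove, Finset.bipartiteBelow] at e
  rw [Finset.sum_congr rfl hfive, Finset.sum_const, T.size B hB.1, smul_eq_mul] at e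
  refine le_antisymm (T.inter_le hB.1 hC.1 hne) ?_
  by_contra h
  push Not at h
  have := Finset.sum_lt_sum hle ⟨C, by simp [P, away, hC.1, hC.2, Ne.symm hne],
    by rw [Finset.filter_mem_eq_inter]; exact h⟩
  rw [← e, Finset.sum_const, hP, smul_eq_mul] at this
  omega

variable {σ : α → α} (hi : ∀ x, σ (σ x) = x) (hf : ∀ x, σ x ≠ x) (hσ : ∀ B ∈ 𝓑, B.image σ ∈ 𝓑)

include hi in
theorem mem_image_iff (B : Finset α) (y : α) : y ∈ B.image σ ↔ σ y ∈ B := by
  rw [Finset.mem_image]
  exact ⟨fun ⟨z, hz, h⟩ => by rw [← h, hi]; exact hz, fun h => ⟨σ y, h, hi y⟩⟩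

include hi in
theorem image_image (B : Finset α) : (B.image σ).image σ = B := by
  ext y; rw [mem_image_iff hi, mem_image_iff hi, hi]

include T hi hf hσ in
/-- two invariant blocks meet -/
theorem stable_meet {H K : Finset α} (hH : H ∈ 𝓑) (hK : K ∈ 𝓑) (hHs : H.image σ = H) (hKs : K.image σ = K) :
    ¬ Disjoint K H := by
  intro hd
  have hKA : K ∈ away 𝓑 H := by simp [away, hK, hd]
  have hmap : ∀ B ∈ away 𝓑 H, B.image σ ∈ away 𝓑 H := by
    intro B hB
    simp only [away, Finset.mem_filter] at hB ⊢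
    refine ⟨hσ B hB.1, Finset.disjoint_left.mpr fun y hy hyH => ?_⟩
    rw [mem_image_iff hi] at hy
    exact Finset.disjoint_left.mp hB.2 hy ((mem_image_iff hi H y).mp (hHs.symm ▸ hyH))
  have hcases : ∀ B ∈ away 𝓑 H,
      (B.filter fun p => σ p ∈ B).card = if B.image σ = B then 6 else 2 := by
    intro B hB
    have he : (B.filter fun p => σ p ∈ B) = B ∩ B.image σ := by
      ext p; simp [mem_image_iff hi]
    rw [he]
    split_ifs with h
    · rw [h, Finset.inter_self, T.size B (Finset.mem_filter.mp hB).1]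
    · exact T.away_inter hH hB (hmap B hB) (Ne.symm h)
  have hpair : ∀ p ∈ Hᶜ, ((away 𝓑 H).filter fun B => p ∈ B ∧ σ p ∈ B).card = 2 := by
    intro p hp
    rw [Finset.mem_compl] at hp
    have hσp : σ p ∉ H := fun h => hp ((mem_image_iff hi H p).mpr h |> fun h' => by rwa [hHs] at h')
    set P := 𝓑.filter fun B => p ∈ B ∧ σ p ∈ B
    have hP : P.card = 5 := T.pair_five (Ne.symm (hf p))
    have hsplit := Finset.card_filter_add_card_filter_not (s := P) (fun B => Disjoint B H)
    have hAw : (P.filter fun B => Disjoint B H) = (away 𝓑 H).filter fun B => p ∈ B ∧ σ p ∈ B := by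
      ext B; simp [P, away, and_assoc, and_comm, and_left_comm]
    have h2 : ∀ B ∈ P.filter (fun B => ¬ Disjoint B H), (H.filter fun q => q ∈ B).card = 2 := by
      intro B hB
      simp only [P, Finset.mem_filter] at hB
      rw [Finset.filter_mem_eq_inter, Finset.inter_comm]
      exact ((T.away_meet hH hB.1.1).mp hB.2).resolve_left fun e => hp (e ▸ hB.1.2.1)
    have h1 : ∀ q ∈ H, ((P.filter fun B => ¬ Disjoint B H).filter fun B => q ∈ B).card = 1 := by
      intro q hq
      have n1 : p ≠ q := fun e => hp (e ▸ hq)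
      have n2 : σ p ≠ q := fun e => hσp (e ▸ hq)
      obtain ⟨B, hB, b1, b2, b3⟩ := T.cover p (σ p) q (Ne.symm (hf p)) n1 n2
      rw [Finset.card_eq_one]
      refine ⟨B, Finset.eq_singleton_iff_unique_mem.mpr ⟨?_, fun C hC => ?_⟩⟩
      · simp only [P, Finset.mem_filter]
        exact ⟨⟨⟨hB, b1, b2⟩, Finset.not_disjoint_iff.mpr ⟨q, b3, hq⟩⟩, b3⟩
      · simp only [P, Finset.mem_filter] at hC
        exact T.unique C hC.1.1.1 B hB p (σ p) q (Ne.symm (hf p)) n1 n2 hC.1.1.2.1 hC.1.1.2.2 hC.2 b1 b2 b3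
    have e := Finset.sum_card_bipartiteAbove_eq_sum_card_bipartiteBelow
      (fun q B => q ∈ B) (s := H) (t := P.filter fun B => ¬ Disjoint B H)
    simp only [Finset.bipartiteAbove, Finset.bipartiteBelow] at e
    rw [Finset.sum_congr rfl h1, Finset.sum_congr rfl h2, Finset.sum_const, Finset.sum_const,
      T.size H hH, smul_eq_mul, smul_eq_mul] at e
    rw [hAw, hP] at hsplit
    omega
  have e := Finset.sum_card_bipartiteAbove_eq_sum_card_bipartiteBelow
    (fun p B => p ∈ B ∧ σ p ∈ B) (s := Hᶜ) (t := away 𝓑 H)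
  simp only [Finset.bipartiteAbove, Finset.bipartiteBelow] at e
  rw [Finset.sum_congr rfl hpair, Finset.sum_const, Finset.card_compl, T.card, T.size H hH, smul_eq_mul] at e
  have hterm : ∀ B ∈ away 𝓑 H, (Hᶜ.filter fun p => p ∈ B ∧ σ p ∈ B).card =
      if B.image σ = B then 6 else 2 := by
    intro B hB
    rw [← hcases B hB]
    congr 1
    ext p
    simp only [Finset.mem_filter, Finset.mem_compl]
    exact ⟨fun h => h.2, fun h => ⟨Finset.disjoint_left.mp (Finset.mem_filter.mp hB).2 h.1, h⟩⟩
  rw [Finset.sum_congr rfl hterm] at e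
  have hlt : ∑ _B ∈ away 𝓑 H, 2 < ∑ B ∈ away 𝓑 H, (if B.image σ = B then 6 else 2) := by
    refine Finset.sum_lt_sum (fun B _ => by split_ifs <;> norm_num) ⟨K, hKA, ?_⟩
    rw [if_pos hKs]
    norm_num
  rw [Finset.sum_const, T.away_card hH, smul_eq_mul] at hlt
  omega

include T hi hf in
/-- an invariant block contains the image of each of its points -/
theorem stable_pair (p : α) :
    (𝓑.filter fun B => p ∈ B ∧ B.image σ = B) = (𝓑.filter fun B => p ∈ B ∧ σ p ∈ B).filter fun B =>
      B.image σ = B := by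
  ext B
  simp only [Finset.mem_filter]
  exact ⟨fun h => ⟨⟨h.1, h.2.1, (mem_image_iff hi B p).mp (h.2.2.symm ▸ h.2.1)⟩, h.2.2⟩,
    fun h => ⟨h.1.1, h.1.2.1, h.2⟩⟩

include T hi hf hσ in
/-- never exactly three invariant blocks on a point -/
theorem not_three (p : α) : (𝓑.filter fun B => p ∈ B ∧ B.image σ = B).card ≠ 3 := by
  intro h3
  set P := 𝓑.filter fun B => p ∈ B ∧ B.image σ = B
  have hmemP : ∀ {B}, B ∈ P → B ∈ 𝓑 ∧ p ∈ B ∧ σ p ∈ B ∧ B.image σ = B := by
    intro B hB
    simp only [P, Finset.mem_filter] at hB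
    exact ⟨hB.1, hB.2.1, (mem_image_iff hi B p).mp (hB.2.2.symm ▸ hB.2.1), hB.2.2⟩
  set pr : Finset α := {p, σ p}
  have hpr : pr.card = 2 := Finset.card_pair (Ne.symm (hf p))
  set U := P.biUnion fun B => B \ pr
  have hU : U.card ≤ 12 := by
    refine Finset.card_biUnion_le.trans (le_of_le_of_eq (Finset.sum_le_card_nsmul P _ 4 fun B hB => ?_) ?_)
    · obtain ⟨hB, h1, h2, -⟩ := hmemP hB
      rw [Finset.card_sdiff_of_subset (by simp [pr, Finset.insert_subset_iff, h1, h2]), hpr, T.size B hB]
    · rw [h3, smul_eq_mul]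
  obtain ⟨w, -, hw⟩ := Finset.exists_mem_notMem_of_card_lt_card (s := pr ∪ U) (t := (Finset.univ : Finset α))
    (by
      refine lt_of_le_of_lt (Finset.card_union_le _ _) ?_
      rw [hpr, Finset.card_univ, T.card]
      omega)
  rw [Finset.mem_union, not_or] at hw
  -- an invariant block through `w`
  set Q := 𝓑.filter fun B => w ∈ B ∧ σ w ∈ B
  have hQ : Q.card = 5 := T.pair_five (Ne.symm (hf w))
  have hQs : ∀ B ∈ Q, B.image σ ∈ Q := by
    intro B hB
    simp only [Q, Finset.mem_filter] at hB ⊢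
    exact ⟨hσ B hB.1, (mem_image_iff hi B w).mpr hB.2.2,
      (mem_image_iff hi B (σ w)).mpr (by rw [hi]; exact hB.2.1)⟩
  have heven := even_moved Q (fun B => B.image σ) hQs fun B _ => image_image hi B
  have hsplit := Finset.card_filter_add_card_filter_not (s := Q) (fun B => B.image σ = B)
  simp only [← ne_eq] at hsplit
  obtain ⟨W, hW⟩ := Finset.card_pos.mp (show 0 < (Q.filter fun B => B.image σ = B).card by omega)
  simp only [Q, Finset.mem_filter] at hW
  obtain ⟨⟨hW, hwW, -⟩, hWs⟩ := hW
  have hpW : p ∉ W := by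
    intro hpW
    have hWP : W ∈ P := by simp [P, hW, hpW, hWs]
    exact hw.2 (Finset.mem_biUnion.mpr ⟨W, hWP, Finset.mem_sdiff.mpr ⟨hwW, hw.1⟩⟩)
  have hσpW : σ p ∉ W := fun h => hpW (hWs ▸ (mem_image_iff hi W p).mpr h)
  have hdis : (P : Set (Finset α)).PairwiseDisjoint fun B => W ∩ B := by
    intro B hB C hC hne
    obtain ⟨hB, b1, b2, -⟩ := hmemP hB
    obtain ⟨hC, c1, c2, -⟩ := hmemP hC
    show Disjoint (W ∩ B) (W ∩ C)
    rw [Finset.disjoint_left]
    intro y hyB hyC
    simp only [Finset.mem_inter] at hyB hyC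
    exact hne (T.unique B hB C hC p (σ p) y (Ne.symm (hf p)) (fun e => hpW (e ▸ hyB.1))
      (fun e => hσpW (e ▸ hyB.1)) b1 b2 hyB.2 c1 c2 hyC.2)
  have htwo : ∀ B ∈ P, (W ∩ B).card = 2 := by
    intro B hB
    obtain ⟨hB, b1, -, bs⟩ := hmemP hB
    exact ((T.away_meet hB hW).mp (T.stable_meet hi hf hσ hB hW bs hWs)).resolve_left
      fun e => hpW (e ▸ b1)
  have hsub : P.biUnion (fun B => W ∩ B) ⊆ W.erase w := by
    intro y hy
    simp only [Finset.mem_biUnion, Finset.mem_inter] at hy
    obtain ⟨B, hB, hyW, hyB⟩ := hy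
    refine Finset.mem_erase.mpr ⟨fun e => ?_, hyW⟩
    subst e
    exact hw.2 (Finset.mem_biUnion.mpr ⟨B, hB, Finset.mem_sdiff.mpr ⟨hyB, hw.1⟩⟩)
  have := Finset.card_le_card hsub
  rw [Finset.card_biUnion hdis, Finset.sum_congr rfl htwo, Finset.sum_const, h3, smul_eq_mul,
    Finset.card_erase_of_mem hwW, T.size W hW] at this
  omega

include T hi hf in
/-- not every block on a moved pair is invariant -/
theorem not_all_stable : ¬ ∀ B ∈ 𝓑, ∀ p ∈ B, σ p ∈ B → B.image σ = B := by
  intro hall
  set S := 𝓑.filter fun B => B.image σ = B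
  have hfive : ∀ p ∈ (Finset.univ : Finset α), (S.filter fun B => p ∈ B).card = 5 := by
    intro p _
    rw [← T.pair_five (Ne.symm (hf p))]
    congr 1
    ext B
    simp only [S, Finset.mem_filter]
    exact ⟨fun h => ⟨h.1.1, h.2, (mem_image_iff hi B p).mp (h.1.2.symm ▸ h.2)⟩,
      fun h => ⟨⟨h.1, hall B h.1 p h.2.1 h.2.2⟩, h.2.1⟩⟩
  have hsix : ∀ B ∈ S, ((Finset.univ : Finset α).filter fun p => p ∈ B).card = 6 := by
    intro B hB
    rw [Finset.filter_univ_mem, T.size B (Finset.mem_filter.mp hB).1]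
  have e := Finset.sum_card_bipartiteAbove_eq_sum_card_bipartiteBelow
    (fun p B => p ∈ B) (s := (Finset.univ : Finset α)) (t := S)
  simp only [Finset.bipartiteAbove, Finset.bipartiteBelow] at e
  rw [Finset.sum_congr rfl hfive, Finset.sum_congr rfl hsix, Finset.sum_const, Finset.sum_const,
    Finset.card_univ, T.card, smul_eq_mul, smul_eq_mul] at e
  omega

end TripleSystem

end Cfsg.Agent.Lib.FischerMTypes.Aut22
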