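import Mathlib
import Cfsg.Agent.Lib.FischerMTypes.Aut22.Six
import Cfsg.Agent.Lib.FischerMTypes.Aut22.Design

/-!
Type M(22): an automorphism of order two without fixed transpositions, restricted to an invariant
clique of 22.
-/

set_option autoImplicit false
set_option linter.style.haveILetI false
set_option linter.unusedSectionVars false

namespace Cfsg.Agent.Lib.FischerMTypes.Aut22

open Cfsg.Agent.Lib.FischerMTypes.Basic Cfsg.Agent.Lib.FischerMTypes.Primitive
open Cfsg.Agent.Lib.FischerMTypes.TraceCounts (Sys)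

variable {G : Type*} [Group G] [Finite G] {D : Set G}
variable {F : Type} [Field F] [Fintype F]

/-- an involution preserving `D` and moving each of its members to a commuting one -/
structure Derange (D : Set G) (φ : MulAut G) : Prop where
  inv : ∀ x, φ (φ x) = x
  mem : ∀ x ∈ D, φ x ∈ D
  ne : ∀ x ∈ D, φ x ≠ x
  comm : ∀ x ∈ D, Commute x (φ x)

theorem Derange.map_six {φ : MulAut G} (hφ : Derange D φ) {a b c x : G} (hx : x ∈ six D a b c) :
    φ x ∈ six D (φ a) (φ b) (φ c) := by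
  have hcl : ∀ {a b c y : G}, y ∈ cl3 D a b c → φ y ∈ cl3 D (φ a) (φ b) (φ c) := fun {a b c y} hy =>
    ⟨hφ.mem y hy.1, hy.2.1.map φ.toMonoidHom, hy.2.2.1.map φ.toMonoidHom, hy.2.2.2.map φ.toMonoidHom⟩
  refine ⟨hcl hx.1, fun y hy => ?_⟩
  have hy' := hcl hy
  rw [hφ.inv, hφ.inv, hφ.inv] at hy'
  have := (hx.2 _ hy').map φ.toMonoidHom
  rwa [MulEquiv.coe_toMonoidHom, hφ.inv] at this

/-- an invariant clique of 22 closed under the sets of six -/
structure Good (D : Set G) (φ : MulAut G) (B : Set G) : Prop where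
  sub : B ⊆ D
  card : B.ncard = 22
  clique : ∀ y ∈ B, ∀ z ∈ B, Commute y z
  closed : ∀ p ∈ B, ∀ q ∈ B, ∀ r ∈ B, six D p q r ⊆ B
  stable : ∀ y ∈ B, φ y ∈ B

variable (S : Sys D F)

include S in
theorem good_block {φ : MulAut G} (hφ : Derange D φ) {a b c e : G} (h : Tri D a b c) (he : e ∈ cl3 D a b c)
    (he' : e ∉ six D a b c) (h1 : φ a ∈ block D a b c e) (h2 : φ b ∈ block D a b c e)
    (h3 : φ c ∈ block D a b c e) (h4 : φ e ∈ block D a b c e) : Good D φ (block D a b c e) := by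
  obtain ⟨hcard, hcl⟩ := block_spec S h he he'
  refine ⟨fun y hy => hy.1.1, hcard, hcl, fun p hp q hq r hr => six_subset_block S h he he' hp hq hr,
    fun y hy => ?_⟩
  have key : ∀ z, φ z ∈ block D a b c e → Commute z (φ y) := fun z hz => by
    have := (hcl _ hz y hy).map φ.toMonoidHom
    simpa [hφ.inv] using this
  exact ⟨⟨hφ.mem y hy.1.1, key a h1, key b h2, key c h3⟩, key e h4⟩

/-- the six of three members of a clique, as a block -/
noncomputable def blk (D : Set G) {B : Set G} [Fintype B] (p q r : B) : Finset B := by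
  classical exact Finset.univ.filter fun y : B => (y : G) ∈ six D (p : G) q r

theorem mem_blk {B : Set G} [Fintype B] {p q r y : B} :
    y ∈ blk D p q r ↔ (y : G) ∈ six D (p : G) q r := by
  classical simp [blk]

/-- all blocks of a clique -/
noncomputable def blks (D : Set G) (B : Set G) [Fintype B] : Finset (Finset B) := by
  classical exact Finset.univ.filter fun H => ∃ p q r : B, p ≠ q ∧ p ≠ r ∧ q ≠ r ∧ H = blk D p q r

theorem mem_blks {B : Set G} [Fintype B] {H : Finset B} :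
    H ∈ blks D B ↔ ∃ p q r : B, p ≠ q ∧ p ≠ r ∧ q ≠ r ∧ H = blk D p q r := by
  classical simp [blks]

variable {φ : MulAut G} {B : Set G} (hB : Good D φ B) [Fintype B] [DecidableEq B]

include hB in
theorem Good.tri {p q r : B} (n1 : p ≠ q) (n2 : p ≠ r) (n3 : q ≠ r) : Tri D (p : G) q r :=
  ⟨hB.sub p.2, hB.sub q.2, hB.sub r.2, Subtype.coe_ne_coe.mpr n1, Subtype.coe_ne_coe.mpr n2,
    Subtype.coe_ne_coe.mpr n3, hB.clique _ p.2 _ q.2, hB.clique _ p.2 _ r.2, hB.clique _ q.2 _ r.2⟩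

include S hB in
theorem Good.blk_eq {p q r p' q' r' : B} (n1 : p ≠ q) (n2 : p ≠ r) (n3 : q ≠ r) (m1 : p' ≠ q')
    (m2 : p' ≠ r') (m3 : q' ≠ r') (h1 : p' ∈ blk D p q r) (h2 : q' ∈ blk D p q r) (h3 : r' ∈ blk D p q r) :
    blk D p' q' r' = blk D p q r := by
  ext y
  rw [mem_blk, mem_blk, six_eq S (hB.tri n1 n2 n3) (mem_blk.mp h1) (mem_blk.mp h2) (mem_blk.mp h3)
    (Subtype.coe_ne_coe.mpr m1) (Subtype.coe_ne_coe.mpr m2) (Subtype.coe_ne_coe.mpr m3)]

include hB in
theorem Good.self_blk {p q r : B} (n1 : p ≠ q) (n2 : p ≠ r) (n3 : q ≠ r) :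
    p ∈ blk D p q r ∧ q ∈ blk D p q r ∧ r ∈ blk D p q r :=
  ⟨mem_blk.mpr ((hB.tri n1 n2 n3).mem_six (Or.inl rfl)),
    mem_blk.mpr ((hB.tri n1 n2 n3).mem_six (Or.inr (Or.inl rfl))),
    mem_blk.mpr ((hB.tri n1 n2 n3).mem_six (Or.inr (Or.inr rfl)))⟩

include S hB in
theorem Good.system : TripleSystem (blks D B) := by
  refine ⟨?_, ?_, ?_, ?_⟩
  · rw [← Nat.card_eq_fintype_card, Nat.card_coe_set_eq, hB.card]
  · intro H hH
    obtain ⟨p, q, r, n1, n2, n3, rfl⟩ := mem_blks.mp hH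
    rw [← Finset.card_map (Function.Embedding.subtype _), ← Set.ncard_coe_finset]
    rw [show ((blk D p q r).map (Function.Embedding.subtype _) : Set G) = six D (p : G) q r from ?_,
      ncard_six S (hB.tri n1 n2 n3)]
    ext y
    simp only [Finset.coe_map, Set.mem_image, Finset.mem_coe, mem_blk, Function.Embedding.subtype_apply]
    exact ⟨fun ⟨z, hz, e⟩ => e ▸ hz, fun hy => ⟨⟨y, hB.closed _ p.2 _ q.2 _ r.2 hy⟩, hy, rfl⟩⟩
  · intro p q r n1 n2 n3
    exact ⟨_, mem_blks.mpr ⟨p, q, r, n1, n2, n3, rfl⟩, hB.self_blk n1 n2 n3⟩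
  · intro H hH K hK x y z m1 m2 m3 hx hy hz hx' hy' hz'
    obtain ⟨p, q, r, n1, n2, n3, rfl⟩ := mem_blks.mp hH
    obtain ⟨p', q', r', k1, k2, k3, rfl⟩ := mem_blks.mp hK
    rw [← hB.blk_eq S n1 n2 n3 m1 m2 m3 hx hy hz, hB.blk_eq S k1 k2 k3 m1 m2 m3 hx' hy' hz']

/-- the involution on the clique -/
def Good.σ (hB : Good D φ B) (y : B) : B := ⟨φ y, hB.stable y y.2⟩

variable (hφ : Derange D φ)

include hφ in
theorem Good.σ_inv (y : B) : hB.σ (hB.σ y) = y := Subtype.ext (hφ.inv y)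

include hφ in
theorem Good.σ_ne (y : B) : hB.σ y ≠ y := fun h => hφ.ne y (hB.sub y.2) (congrArg Subtype.val h)

include hφ in
theorem Good.image_blk (p q r : B) :
    (blk D p q r).image hB.σ = blk D (hB.σ p) (hB.σ q) (hB.σ r) := by
  ext y
  rw [TripleSystem.mem_image_iff (hB.σ_inv hφ), mem_blk, mem_blk]
  refine ⟨fun h => ?_, fun h => ?_⟩
  · have := hφ.map_six h
    simpa [Good.σ, hφ.inv] using this
  · have := hφ.map_six h
    simpa [Good.σ, hφ.inv] using this

include hφ in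
theorem Good.image_mem (H : Finset B) (hH : H ∈ blks D B) : H.image hB.σ ∈ blks D B := by
  obtain ⟨p, q, r, n1, n2, n3, rfl⟩ := mem_blks.mp hH
  exact mem_blks.mpr ⟨_, _, _, (Function.LeftInverse.injective (hB.σ_inv hφ)).ne n1,
    (Function.LeftInverse.injective (hB.σ_inv hφ)).ne n2,
    (Function.LeftInverse.injective (hB.σ_inv hφ)).ne n3, hB.image_blk hφ p q r⟩

include S hφ hB in
/-- the six of a moved pair and a point is invariant as soon as it contains the image of the point -/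
theorem Good.image_eq {p x : B} (n1 : x ≠ p) (n2 : x ≠ hB.σ p)
    (h : φ x ∈ six D (p : G) (φ p) x) : (blk D p (hB.σ p) x).image hB.σ = blk D p (hB.σ p) x := by
  have n := hB.σ_ne hφ p
  have hinj := Function.LeftInverse.injective (hB.σ_inv hφ)
  rw [hB.image_blk hφ, hB.σ_inv hφ]
  refine hB.blk_eq S (Ne.symm n) (Ne.symm n1) (Ne.symm n2) n (hinj.ne (Ne.symm n1)) ?_
    (hB.self_blk (Ne.symm n) (Ne.symm n1) (Ne.symm n2)).2.1
    (hB.self_blk (Ne.symm n) (Ne.symm n1) (Ne.symm n2)).1 (mem_blk.mpr h)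
  intro e
  exact n2 (by rw [e, hB.σ_inv hφ])

omit [Fintype B] [DecidableEq B] in
include S hφ hB in
/-- not all sixes on moved pairs are invariant -/
theorem Good.not_all : ¬ ∀ p ∈ B, ∀ x ∈ B, x ≠ p → x ≠ φ p → φ x ∈ six D p (φ p) x := by
  classical
  let := Fintype.ofFinite B
  intro hall
  have T := hB.system S
  refine T.not_all_stable (hB.σ_inv hφ) (hB.σ_ne hφ) fun H hH p hp hσp => ?_
  obtain ⟨x, hx, hxn⟩ := Finset.exists_mem_notMem_of_card_lt_card (s := ({p, hB.σ p} : Finset B)) (t := H)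
    (by rw [Finset.card_pair (Ne.symm (hB.σ_ne hφ p)), T.size H hH]; norm_num)
  simp only [Finset.mem_insert, Finset.mem_singleton, not_or] at hxn
  obtain ⟨a, b, c, n1, n2, n3, rfl⟩ := mem_blks.mp hH
  rw [← hB.blk_eq S n1 n2 n3 (Ne.symm (hB.σ_ne hφ p)) (Ne.symm hxn.1) (Ne.symm hxn.2) hp hσp hx]
  exact hB.image_eq S hφ hxn.1 hxn.2
    (hall p p.2 x x.2 (Subtype.coe_ne_coe.mpr hxn.1) fun e => hxn.2 (Subtype.ext e))

omit [Fintype B] [DecidableEq B] in
include S hφ hB in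
/-- exactly two moved sixes on a moved pair cannot occur -/
theorem Good.not_two {a x : G} (ha : a ∈ B) (hx : x ∈ B) (hxa : x ≠ a) (hxb : x ≠ φ a)
    (hmv : φ x ∉ six D a (φ a) x)
    (hfix : ∀ z ∈ B, z ∉ six D a (φ a) x → z ∉ six D a (φ a) (φ x) → φ z ∈ six D a (φ a) z) : False := by
  classical
  let := Fintype.ofFinite B
  have T := hB.system S
  set p : B := ⟨a, ha⟩
  set X : B := ⟨x, hx⟩
  have hinj := Function.LeftInverse.injective (hB.σ_inv hφ)
  have np : p ≠ hB.σ p := Ne.symm (hB.σ_ne hφ p)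
  have nx1 : X ≠ p := fun e => hxa (congrArg Subtype.val e)
  have nx2 : X ≠ hB.σ p := fun e => hxb (congrArg Subtype.val e)
  set H := blk D p (hB.σ p) X
  have hH : H ∈ blks D B := mem_blks.mpr ⟨_, _, _, np, Ne.symm nx1, Ne.symm nx2, rfl⟩
  obtain ⟨s1, s2, s3⟩ := hB.self_blk np (Ne.symm nx1) (Ne.symm nx2)
  have hne : H.image hB.σ ≠ H := fun e =>
    hmv (mem_blk.mp (e ▸ Finset.mem_image_of_mem _ s3 : hB.σ X ∈ H))
  set P := (blks D B).filter fun K => p ∈ K ∧ hB.σ p ∈ K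
  have hHP : H ∈ P := by simp [P, hH, s1, s2, H]
  have hH'P : H.image hB.σ ∈ P := by
    simp only [P, Finset.mem_filter]
    exact ⟨hB.image_mem hφ H hH, (TripleSystem.mem_image_iff (hB.σ_inv hφ) H p).mpr s2,
      (TripleSystem.mem_image_iff (hB.σ_inv hφ) H _).mpr (by rw [hB.σ_inv hφ]; exact s1)⟩
  refine T.not_three (hB.σ_inv hφ) (hB.σ_ne hφ) (fun K hK => hB.image_mem hφ K hK) p ?_
  rw [T.stable_pair (hB.σ_inv hφ) (hB.σ_ne hφ)]
  have : P.filter (fun K => K.image hB.σ = K) = (P.erase H).erase (H.image hB.σ) := by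
    ext K
    simp only [Finset.mem_filter, Finset.mem_erase]
    constructor
    · rintro ⟨hK, hKs⟩
      refine ⟨fun e => ?_, fun e => hne (e ▸ hKs), hK⟩
      rw [e, TripleSystem.image_image (hB.σ_inv hφ)] at hKs
      exact hne hKs.symm
    · rintro ⟨k1, k2, hK⟩
      refine ⟨hK, ?_⟩
      obtain ⟨hKm, kp, kq⟩ : K ∈ blks D B ∧ p ∈ K ∧ hB.σ p ∈ K := by
        simpa [P, Finset.mem_filter] using hK
      obtain ⟨z, hz, hzn⟩ := Finset.exists_mem_notMem_of_card_lt_card (s := ({p, hB.σ p} : Finset B))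
        (t := K) (by rw [Finset.card_pair np, T.size K hKm]; norm_num)
      simp only [Finset.mem_insert, Finset.mem_singleton, not_or] at hzn
      obtain ⟨u, v, w, n1, n2, n3, rfl⟩ := mem_blks.mp hKm
      rw [← hB.blk_eq S n1 n2 n3 np (Ne.symm hzn.1) (Ne.symm hzn.2) kp kq hz] at k1 k2 ⊢
      refine hB.image_eq S hφ hzn.1 hzn.2 (hfix z z.2 (fun hzH => k2 ?_) fun hzH => k1 ?_)
      · exact hB.blk_eq S np (Ne.symm nx1) (Ne.symm nx2) np (Ne.symm hzn.1) (Ne.symm hzn.2) s1 s2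
          (mem_blk.mpr hzH)
      · have hx' : hB.σ X ≠ p := fun e => nx2 (by rw [← e, hB.σ_inv hφ])
        have hx'' : hB.σ X ≠ hB.σ p := hinj.ne nx1
        have e1 : H.image hB.σ = blk D p (hB.σ p) (hB.σ X) := by
          rw [hB.image_blk hφ, hB.σ_inv hφ]
          obtain ⟨t1, t2, t3⟩ := hB.self_blk np (Ne.symm hx') (Ne.symm hx'')
          exact hB.blk_eq S np (Ne.symm hx') (Ne.symm hx'') (Ne.symm np) (Ne.symm hx'') (Ne.symm hx') t2 t1 t3
        rw [e1]
        obtain ⟨t1, t2, t3⟩ := hB.self_blk np (Ne.symm hx') (Ne.symm hx'')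
        exact hB.blk_eq S np (Ne.symm hx') (Ne.symm hx'') np (Ne.symm hzn.1) (Ne.symm hzn.2) t1 t2
          (mem_blk.mpr hzH)
  rw [this, Finset.card_erase_of_mem (Finset.mem_erase.mpr ⟨hne, hH'P⟩), Finset.card_erase_of_mem hHP,
    T.pair_five np]

end Cfsg.Agent.Lib.FischerMTypes.Aut22
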