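import Mathlib
import Cfsg.Agent.Lib.FischerMTypes.Aut22.Clique
import Cfsg.Agent.Lib.FischerMTypes.OtherClasses

/-!
Type M(22): every automorphism of order two fixes a transposition. Otherwise it maps each `a` to a
commuting `b`, the 45 classes of common neighbours of `a` and `b` carry the graph of `Quad`, so all
are invariant, which no invariant clique of 22 allows.
-/

set_option autoImplicit false
set_option linter.style.haveILetI false
set_option linter.unusedSectionVars false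

namespace Cfsg.Agent.Lib.FischerMTypes.Aut22

open Cfsg.Agent.Lib.FischerMTypes.Basic Cfsg.Agent.Lib.FischerMTypes.Primitive
  Cfsg.Agent.Lib.FischerMTypes.PointModel
open Cfsg.Agent.Lib.FischerMTypes.TraceCounts (Sys)

variable {G : Type*} [Group G] [Finite G] {D : Set G}
variable {F : Type} [Field F] [Fintype F]

theorem tri_of {a b x : G} (ha : a ∈ D) (hb : b ∈ perp D a) (hx : x ∈ perp₂ D a b) : Tri D a b x :=
  ⟨ha, hb.1, hx.1.1, Ne.symm hb.2.1, Ne.symm hx.1.2.1, Ne.symm hx.2.2.1, hb.2.2, hx.1.2.2, hx.2.2.2⟩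

theorem perp₂_of {a b x y : G} (hy : y ∈ six D a b x) (h1 : y ≠ a) (h2 : y ≠ b) : y ∈ perp₂ D a b :=
  ⟨⟨hy.1.1, h1, hy.1.2.1⟩, hy.1.1, h2, hy.1.2.2.1⟩

variable (S : Sys D F)

include S in
theorem six_cls {a b x y : G} (ha : a ∈ D) (hb : b ∈ perp D a) (hx : x ∈ perp₂ D a b)
    (hy : y ∈ perp₂ D a b) (h : y ∈ six D a b x) : six D a b y = six D a b x :=
  six_eq S (tri_of ha hb hx) ((tri_of ha hb hx).mem_six (Or.inl rfl))
    ((tri_of ha hb hx).mem_six (Or.inr (Or.inl rfl))) h (Ne.symm hb.2.1) (Ne.symm hy.1.2.1) (Ne.symm hy.2.2.1)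

include S in
theorem six_inter {a b x y z : G} (ha : a ∈ D) (hb : b ∈ perp D a) (hx : x ∈ perp₂ D a b)
    (hy : y ∈ perp₂ D a b) (hne : y ∉ six D a b x) (hzx : z ∈ six D a b x) (hzy : z ∈ six D a b y) :
    z = a ∨ z = b := by
  by_contra hz
  rw [not_or] at hz
  have hz2 := perp₂_of hzx hz.1 hz.2
  exact hne ((six_cls S ha hb hx hz2 hzx).symm.trans (six_cls S ha hb hy hz2 hzy) ▸
    (tri_of ha hb hy).mem_six (Or.inr (Or.inr rfl)))

include S in
theorem cls_card {a b x : G} (ha : a ∈ D) (hb : b ∈ perp D a) (hx : x ∈ perp₂ D a b) :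
    {y | y ∈ perp₂ D a b ∧ six D a b y = six D a b x}.ncard = 4 := by
  have h := tri_of ha hb hx
  have hset : {y | y ∈ perp₂ D a b ∧ six D a b y = six D a b x} = six D a b x \ {a, b} := by
    ext y
    constructor
    · rintro ⟨hy, he⟩
      exact ⟨he ▸ (tri_of ha hb hy).mem_six (Or.inr (Or.inr rfl)), by simp [hy.1.2.1, hy.2.2.1]⟩
    · rintro ⟨hy, hn⟩
      simp only [Set.mem_insert_iff, Set.mem_singleton_iff, not_or] at hn
      have hy' := perp₂_of hy hn.1 hn.2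
      exact ⟨hy', six_cls S ha hb hx hy' hy⟩
  have hab : ({a, b} : Set G) ⊆ six D a b x := by
    rintro y (rfl | rfl)
    exacts [h.mem_six (Or.inl rfl), h.mem_six (Or.inr (Or.inl rfl))]
  have := Set.ncard_sdiff_add_ncard_of_subset hab (Set.toFinite _)
  rw [ncard_six S h, Set.ncard_pair h.nab] at this
  rw [hset]
  omega

include S in
theorem ncard_row {a b x : G} (ha : a ∈ D) (hb : b ∈ perp D a) (hx : x ∈ perp₂ D a b) :
    {y | y ∈ perp₂ D a b ∧ (Commute x y ∧ y ∉ six D a b x)}.ncard = 48 := by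
  have h := tri_of ha hb hx
  have hset : {y | y ∈ perp₂ D a b ∧ (Commute x y ∧ y ∉ six D a b x)} = cl3 D a b x \ six D a b x := by
    ext y
    constructor
    · rintro ⟨hy, c, hn⟩
      exact ⟨⟨hy.1.1, hy.1.2.2, hy.2.2.2, c⟩, hn⟩
    · rintro ⟨hy, hn⟩
      exact ⟨⟨⟨hy.1, fun e => hn (e ▸ h.mem_six (Or.inl rfl)), hy.2.1⟩, hy.1,
        fun e => hn (e ▸ h.mem_six (Or.inr (Or.inl rfl))), hy.2.2.1⟩, hy.2.2.2, hn⟩
  have := Set.ncard_sdiff_add_ncard_of_subset (s := six D a b x) (t := cl3 D a b x) (fun y hy => hy.1)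
    (Set.toFinite _)
  rw [ncard_six S h, ncard_cl3 S h] at this
  rw [hset]
  omega

include S in
theorem ncard_third {a b x y : G} (ha : a ∈ D) (hb : b ∈ perp D a) (hx : x ∈ perp₂ D a b)
    (hy : y ∈ perp₂ D a b) (hxy : Commute x y) (hne : y ∉ six D a b x) :
    {z | z ∈ perp₂ D a b ∧ (Commute x z ∧ Commute y z ∧ z ∉ six D a b x ∧ z ∉ six D a b y)}.ncard = 12 := by
  have h := tri_of ha hb hx
  have h' := tri_of ha hb hy
  have he : y ∈ cl3 D a b x := ⟨hy.1.1, hy.1.2.2, hy.2.2.2, hxy⟩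
  obtain ⟨hcard, -⟩ := block_spec S h he hne
  have hset : {z | z ∈ perp₂ D a b ∧ (Commute x z ∧ Commute y z ∧ z ∉ six D a b x ∧ z ∉ six D a b y)} =
      block D a b x y \ (six D a b x ∪ six D a b y) := by
    ext z
    constructor
    · rintro ⟨hz, c1, c2, n1, n2⟩
      exact ⟨⟨⟨hz.1.1, hz.1.2.2, hz.2.2.2, c1⟩, c2⟩, fun hh => hh.elim n1 n2⟩
    · rintro ⟨⟨hz, c2⟩, hn⟩
      rw [Set.mem_union, not_or] at hn
      exact ⟨⟨⟨hz.1, fun e => hn.1 (e ▸ h.mem_six (Or.inl rfl)), hz.2.1⟩, hz.1,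
        fun e => hn.1 (e ▸ h.mem_six (Or.inr (Or.inl rfl))), hz.2.2.1⟩, hz.2.2.2, c2, hn.1, hn.2⟩
  have hsub : six D a b x ∪ six D a b y ⊆ block D a b x y := by
    rintro z (hz | hz)
    · exact ⟨hz.1, (hz.2 y he).symm⟩
    · exact ⟨⟨hz.1.1, hz.1.2.1, hz.1.2.2.1, (hz.2 x ⟨hx.1.1, hx.1.2.2, hx.2.2.2, hxy.symm⟩).symm⟩,
        hz.1.2.2.2⟩
  have hi : six D a b x ∩ six D a b y = {a, b} := by
    ext z
    constructor
    · rintro ⟨h1, h2⟩
      simpa using six_inter S ha hb hx hy hne h1 h2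
    · rintro (rfl | rfl)
      exacts [⟨h.mem_six (Or.inl rfl), h'.mem_six (Or.inl rfl)⟩,
        ⟨h.mem_six (Or.inr (Or.inl rfl)), h'.mem_six (Or.inr (Or.inl rfl))⟩]
  have h1 := Set.ncard_union_add_ncard_inter (six D a b x) (six D a b y) (Set.toFinite _) (Set.toFinite _)
  rw [hi, Set.ncard_pair h.nab, ncard_six S h, ncard_six S h'] at h1
  have h2 := Set.ncard_sdiff_add_ncard_of_subset hsub (Set.toFinite _)
  rw [hcard] at h2
  rw [hset]
  omega

/-- the classes of common neighbours of `a` and `b` -/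
abbrev Cls (D : Set G) (a b : G) : Type _ := {H : Set G // ∃ x ∈ perp₂ D a b, H = six D a b x}

/-- adjacent classes -/
def Adj {a b : G} (H K : Cls D a b) : Prop := H ≠ K ∧ ∀ x ∈ H.1, ∀ y ∈ K.1, Commute x y

/-- the class of a common neighbour -/
def cls {a b x : G} (hx : x ∈ perp₂ D a b) : Cls D a b := ⟨six D a b x, x, hx, rfl⟩

include S in
theorem adj_iff {a b x y : G} (ha : a ∈ D) (hb : b ∈ perp D a) (hx : x ∈ perp₂ D a b) (hy : y ∈ perp₂ D a b) :
    Adj (cls hx) (cls hy) ↔ Commute x y ∧ y ∉ six D a b x := by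
  have h := tri_of ha hb hx
  have h' := tri_of ha hb hy
  constructor
  · rintro ⟨hne, hc⟩
    exact ⟨hc x (h.mem_six (Or.inr (Or.inr rfl))) y (h'.mem_six (Or.inr (Or.inr rfl))),
      fun hm => hne (Subtype.ext (six_cls S ha hb hx hy hm).symm)⟩
  · rintro ⟨c, hn⟩
    refine ⟨fun e => hn ?_, fun u hu v hv => ?_⟩
    · have e' : six D a b x = six D a b y := congrArg Subtype.val e
      exact e' ▸ h'.mem_six (Or.inr (Or.inr rfl))
    · have hye : y ∈ cl3 D a b x := ⟨hy.1.1, hy.1.2.2, hy.2.2.2, c⟩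
      exact (hv.2 u ⟨hu.1.1, hu.1.2.1, hu.1.2.2.1, (hu.2 y hye).symm⟩).symm

theorem Cls.exists_rep {a b : G} (H : Cls D a b) : ∃ (x : G) (hx : x ∈ perp₂ D a b), H = cls hx := by
  obtain ⟨_, x, hx, rfl⟩ := H
  exact ⟨x, hx, rfl⟩

include S in
theorem cls_count {a b : G} (ha : a ∈ D) (hb : b ∈ perp D a) [Fintype (Cls D a b)] (P : Cls D a b → Prop)
    [DecidablePred P] (R : G → Prop) (hR : ∀ x (hx : x ∈ perp₂ D a b), P (cls hx) ↔ R x) :
    4 * (Finset.univ.filter P).card = {x | x ∈ perp₂ D a b ∧ R x}.ncard := by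
  classical
  let := Fintype.ofFinite G
  set T : Finset G := Finset.univ.filter fun x => x ∈ perp₂ D a b ∧ R x
  have hT : {x | x ∈ perp₂ D a b ∧ R x}.ncard = T.card := by
    rw [← Set.ncard_coe_finset]; simp [T]
  rw [hT, Finset.card_eq_sum_card_fiberwise (f := fun x => six D a b x)
    (t := (Finset.univ.filter P).image Subtype.val) ?_]
  · rw [Finset.sum_const_nat (m := 4), Finset.card_image_of_injective _ Subtype.val_injective]
    · ring
    intro H hH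
    obtain ⟨K, hK, rfl⟩ := Finset.mem_image.mp hH
    obtain ⟨x, hx, rfl⟩ := Cls.exists_rep K
    rw [← cls_card S ha hb hx, ← Set.ncard_coe_finset]
    congr 1
    ext y
    simp only [T, Finset.coe_filter, Finset.mem_filter, Finset.mem_univ, true_and, Set.mem_ofPred_eq]
    refine ⟨fun h => ⟨h.1.1, h.2⟩, fun h => ⟨⟨h.1, (hR y h.1).mp ?_⟩, h.2⟩⟩
    rw [show cls h.1 = cls hx from Subtype.ext h.2]
    exact (Finset.mem_filter.mp hK).2
  · intro x hx
    simp only [T, Finset.coe_filter, Finset.mem_univ, true_and, Set.mem_ofPred_eq] at hx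
    simp only [Finset.coe_image, Finset.coe_filter, Finset.mem_univ, true_and, Set.mem_image,
      Set.mem_ofPred_eq]
    exact ⟨cls hx.1, (hR x hx.1).mpr hx.2, rfl⟩

open scoped Classical in
include S in
theorem cls_quad {a b : G} (ha : a ∈ D) (hb : b ∈ perp D a) [Fintype (Cls D a b)] :
    Quad (Cls D a b) Adj := by
  refine ⟨?_, ?_, ?_, ?_, ?_, ?_⟩
  · have h := cls_count S ha hb (fun _ => True) (fun _ => True) fun _ _ => Iff.rfl
    simp only [and_true, Finset.filter_true, Finset.card_univ, Set.ofPred_mem_eq] at h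
    rw [(S.ctx a ha).ncard_edge hb] at h
    omega
  · exact fun H K h => ⟨Ne.symm h.1, fun x hx y hy => (h.2 y hy x hx).symm⟩
  · exact fun H h => h.1 rfl
  · intro H
    obtain ⟨x, hx, rfl⟩ := H.exists_rep
    have h := cls_count S ha hb (fun K => Adj (cls hx) K) (fun y => Commute x y ∧ y ∉ six D a b x)
      fun y hy => adj_iff S ha hb hx hy
    rw [ncard_row S ha hb hx] at h
    omega
  · intro H K hHK
    obtain ⟨x, hx, rfl⟩ := H.exists_rep
    obtain ⟨y, hy, rfl⟩ := K.exists_rep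
    obtain ⟨c, hn⟩ := (adj_iff S ha hb hx hy).mp hHK
    have h := cls_count S ha hb (fun L => Adj (cls hx) L ∧ Adj (cls hy) L)
      (fun z => Commute x z ∧ Commute y z ∧ z ∉ six D a b x ∧ z ∉ six D a b y) fun z hz => by
        rw [adj_iff S ha hb hx hz, adj_iff S ha hb hy hz]; tauto
    rw [ncard_third S ha hb hx hy c hn] at h
    omega
  · intro H K L M hHK hHL hKL hHM hKM hLM
    obtain ⟨x, hx, rfl⟩ := H.exists_rep
    obtain ⟨y, hy, rfl⟩ := K.exists_rep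
    obtain ⟨z, hz, rfl⟩ := L.exists_rep
    obtain ⟨w, hw, rfl⟩ := M.exists_rep
    rw [adj_iff S ha hb hx hy] at hHK
    rw [adj_iff S ha hb hx hz] at hHL
    rw [adj_iff S ha hb hy hz] at hKL
    rw [adj_iff S ha hb hx hw] at hHM
    rw [adj_iff S ha hb hy hw] at hKM
    rw [adj_iff S ha hb hz hw]
    obtain ⟨-, hcl⟩ := block_spec S (tri_of ha hb hx) ⟨hy.1.1, hy.1.2.2, hy.2.2.2, hHK.1⟩ hHK.2
    refine ⟨hcl z ⟨⟨hz.1.1, hz.1.2.2, hz.2.2.2, hHL.1⟩, hKL.1⟩ w ⟨⟨hw.1.1, hw.1.2.2, hw.2.2.2, hHM.1⟩, hKM.1⟩,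
      fun hm => hLM (Subtype.ext (six_cls S ha hb hz hw hm).symm)⟩

variable {φ : MulAut G}

include S in
/-- all classes of a swapped pair are invariant -/
theorem classes_fixed (hφ : Derange D φ) {a : G} (ha : a ∈ D) :
    ∀ x ∈ perp₂ D a (φ a), φ x ∈ six D a (φ a) x := by
  classical
  have hb : φ a ∈ perp D a := ⟨hφ.mem a ha, hφ.ne a ha, hφ.comm a ha⟩
  let := Fintype.ofFinite (Cls D a (φ a))
  have hmap : ∀ {x : G}, x ∈ perp₂ D a (φ a) → φ x ∈ perp₂ D a (φ a) := by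
    intro x hx
    refine ⟨⟨hφ.mem x hx.1.1, fun e => hx.2.2.1 ?_, ?_⟩, hφ.mem x hx.1.1, fun e => hx.1.2.1 (φ.injective e), ?_⟩
    · rw [← hφ.inv x, e]
    · have := hx.2.2.2.map φ.toMonoidHom; simpa [hφ.inv] using this
    · exact hx.1.2.2.map φ.toMonoidHom
  have himg : ∀ {x : G} (hx : x ∈ perp₂ D a (φ a)),
      φ '' six D a (φ a) x = six D a (φ a) (φ x) := by
    intro x hx
    have h' := tri_of ha hb (hmap hx)
    have hswap : six D (φ a) a (φ x) = six D a (φ a) (φ x) :=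
      six_eq S h' (h'.mem_six (Or.inr (Or.inl rfl))) (h'.mem_six (Or.inl rfl)) (h'.mem_six (Or.inr (Or.inr rfl)))
        hb.2.1 (Ne.symm (hmap hx).2.2.1) (Ne.symm (hmap hx).1.2.1)
    ext y
    constructor
    · rintro ⟨z, hz, rfl⟩
      have := hφ.map_six hz
      rwa [hφ.inv, hswap] at this
    · intro hy
      rw [← hswap] at hy
      have := hφ.map_six hy
      rw [hφ.inv, hφ.inv] at this
      exact ⟨φ y, this, hφ.inv y⟩
  set σ : Cls D a (φ a) → Cls D a (φ a) := fun H => ⟨φ '' H.1, by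
    obtain ⟨x, hx, rfl⟩ := H.exists_rep
    exact ⟨φ x, hmap hx, himg hx⟩⟩ with hσ
  have hσc : ∀ {x : G} (hx : x ∈ perp₂ D a (φ a)), σ (cls hx) = cls (hmap hx) := fun hx =>
    Subtype.ext (himg hx)
  have hi : ∀ H, σ (σ H) = H := by
    intro H
    obtain ⟨x, hx, rfl⟩ := H.exists_rep
    rw [hσc hx, hσc (hmap hx)]
    exact Subtype.ext (by simp only [cls, hφ.inv])
  have hR : ∀ H K, Adj H K → Adj (σ H) (σ K) := by
    intro H K h
    refine ⟨(Function.LeftInverse.injective hi).ne h.1, ?_⟩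
    rintro _ ⟨u, hu, rfl⟩ _ ⟨v, hv, rfl⟩
    exact (h.2 u hu v hv).map φ.toMonoidHom
  have hmv : ∀ {x : G} (hx : x ∈ perp₂ D a (φ a)), σ (cls hx) ≠ cls hx → φ x ∉ six D a (φ a) x := by
    intro x hx h hm
    exact h (by rw [hσc hx]; exact Subtype.ext (six_cls S ha hb hx (hmap hx) hm))
  have hadj : ∀ H, σ H ≠ H → Adj H (σ H) := by
    intro H h
    obtain ⟨x, hx, rfl⟩ := H.exists_rep
    rw [hσc hx, adj_iff S ha hb hx (hmap hx)]
    exact ⟨hφ.comm x hx.1.1, hmv hx h⟩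
  have hfix := (cls_quad S ha hb).trivial_of hi hR hadj ?_
  · intro x hx
    have h1 := hfix (cls hx)
    rw [hσc hx] at h1
    have h2 : six D a (φ a) (φ x) = six D a (φ a) x := congrArg Subtype.val h1
    exact h2 ▸ (tri_of ha hb (hmap hx)).mem_six (Or.inr (Or.inr rfl))
  intro H h
  obtain ⟨x, hx, rfl⟩ := H.exists_rep
  by_contra hcon
  push Not at hcon
  have hn := hmv hx h
  have htri := tri_of ha hb hx
  have he : φ x ∈ cl3 D a (φ a) x :=
    ⟨hφ.mem x hx.1.1, (hmap hx).1.2.2, (hmap hx).2.2.2, hφ.comm x hx.1.1⟩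
  obtain ⟨m1, m2, m3, m4⟩ : a ∈ block D a (φ a) x (φ x) ∧ φ a ∈ block D a (φ a) x (φ x) ∧
      x ∈ block D a (φ a) x (φ x) ∧ φ x ∈ block D a (φ a) x (φ x) :=
    ⟨⟨htri.mem_cl3 (Or.inl rfl), he.2.1.symm⟩, ⟨htri.mem_cl3 (Or.inr (Or.inl rfl)), he.2.2.1.symm⟩,
      ⟨htri.mem_cl3 (Or.inr (Or.inr rfl)), he.2.2.2.symm⟩, ⟨he, Commute.refl _⟩⟩
  have hG := good_block S hφ htri he hn m2 (by rw [hφ.inv]; exact m1) m4 (by rw [hφ.inv]; exact m3)
  refine hG.not_two S hφ m1 m3 hx.1.2.1 hx.2.2.1 hn fun z hz n1 n2 => ?_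
  have hz2 : z ∈ perp₂ D a (φ a) :=
    ⟨⟨hz.1.1, fun e => n1 (e ▸ htri.mem_six (Or.inl rfl)), hz.1.2.1⟩, hz.1.1,
      fun e => n1 (e ▸ htri.mem_six (Or.inr (Or.inl rfl))), hz.1.2.2.1⟩
  have h1 := hcon (cls hz2) ((adj_iff S ha hb hx hz2).mpr ⟨hz.1.2.2.2, n1⟩)
    (by rw [hσc hx]; exact (adj_iff S ha hb (hmap hx) hz2).mpr ⟨hz.2, n2⟩)
  rw [hσc hz2] at h1
  have h2 : six D a (φ a) (φ z) = six D a (φ a) z := congrArg Subtype.val h1
  exact h2 ▸ (tri_of ha hb (hmap hz2)).mem_six (Or.inr (Or.inr rfl))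

include S in
theorem no_derange (hφ : Derange D φ) : False := by
  obtain ⟨a, ha, -⟩ := S.hprim.2.1
  have hb : φ a ∈ perp D a := ⟨hφ.mem a ha, hφ.ne a ha, hφ.comm a ha⟩
  obtain ⟨x, hx⟩ : (perp₂ D a (φ a)).Nonempty :=
    Set.nonempty_of_ncard_ne_zero (by rw [(S.ctx a ha).ncard_edge hb]; norm_num)
  obtain ⟨y, hy, c, hn⟩ : {y | y ∈ perp₂ D a (φ a) ∧ (Commute x y ∧ y ∉ six D a (φ a) x)}.Nonempty :=
    Set.nonempty_of_ncard_ne_zero (by rw [ncard_row S ha hb hx]; norm_num)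
  have htri := tri_of ha hb hx
  have he : y ∈ cl3 D a (φ a) x := ⟨hy.1.1, hy.1.2.2, hy.2.2.2, c⟩
  obtain ⟨m1, m2, m3, m4⟩ : a ∈ block D a (φ a) x y ∧ φ a ∈ block D a (φ a) x y ∧
      x ∈ block D a (φ a) x y ∧ y ∈ block D a (φ a) x y :=
    ⟨⟨htri.mem_cl3 (Or.inl rfl), he.2.1.symm⟩, ⟨htri.mem_cl3 (Or.inr (Or.inl rfl)), he.2.2.1.symm⟩,
      ⟨htri.mem_cl3 (Or.inr (Or.inr rfl)), he.2.2.2.symm⟩, ⟨he, Commute.refl _⟩⟩
  have hsx : φ x ∈ six D a (φ a) x := classes_fixed S hφ ha x hx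
  have hsy : φ y ∈ six D a (φ a) y := classes_fixed S hφ ha y hy
  have hsub : ∀ {z}, z ∈ block D a (φ a) x y → six D a (φ a) z ⊆ block D a (φ a) x y := fun hz =>
    six_subset_block S htri he hn m1 m2 hz
  have hG := good_block S hφ htri he hn m2 (by rw [hφ.inv]; exact m1) (hsub m3 hsx) (hsub m4 hsy)
  refine hG.not_all S hφ fun p hp z hz n1 n2 => ?_
  exact classes_fixed S hφ (hG.sub hp) z
    ⟨⟨hG.sub hz, n1, hG.clique p hp z hz⟩, hG.sub hz, n2, hG.clique _ (hG.stable p hp) z hz⟩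

include S in
/-- every automorphism of order two fixes a transposition -/
theorem exists_fixed (φ : MulAut G) (hφ : orderOf φ = 2) : ∃ d ∈ D, φ d = d := by
  have hinv : ∀ x, φ (φ x) = x := fun x => by
    have h := pow_orderOf_eq_one φ
    rw [hφ, sq] at h
    exact congrArg (fun f : MulAut G => f x) h
  have hcls : ∀ x y : G, IsConj x y ↔ IsConj (φ x) (φ y) := fun x y =>
    ⟨fun h => MonoidHom.map_isConj φ.toMonoidHom h,
      fun h => by simpa [hinv] using MonoidHom.map_isConj φ.toMonoidHom h⟩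
  have hord : ∀ x, orderOf (φ x) = orderOf x := fun x =>
    orderOf_injective φ.toMonoidHom φ.injective x
  have himage : φ '' D = D := by
    refine OtherClasses.class_eq S _ ?_
    obtain ⟨⟨h1, h2⟩, hc, hg⟩ := S.hD
    obtain ⟨d, hd, -⟩ := S.hprim.2.1
    refine ⟨⟨?_, ?_⟩, ⟨φ d, ?_, ?_⟩, ?_⟩
    · rintro _ ⟨x, hx, rfl⟩
      rw [hord, h1 x hx]
    · rintro _ ⟨x, hx, rfl⟩ _ ⟨y, hy, rfl⟩
      rcases h2 x hx y hy with h | h
      · exact Or.inl (by rw [← map_mul, ← map_pow, h, map_one])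
      · exact Or.inr (by rw [← map_mul, ← map_pow, h, map_one])
    · exact Set.mem_image_of_mem φ hd
    · ext y
      constructor
      · rintro ⟨x, hx, rfl⟩
        exact (hcls d x).mp (isConj_iff.mpr (S.hprim.1 d hd x hx))
      · intro hy
        refine ⟨φ y, ?_, hinv y⟩
        have h : IsConj d (φ y) := (hcls d (φ y)).mpr (by rw [hinv]; exact hy)
        obtain ⟨g, hg⟩ := isConj_iff.mp h
        exact hg ▸ hc g d hd
    · have := congrArg (Subgroup.map φ.toMonoidHom) hg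
      rwa [MonoidHom.map_closure, Subgroup.map_top_of_surjective _ φ.surjective] at this
  have hmem : ∀ x ∈ D, φ x ∈ D := fun x hx => himage ▸ Set.mem_image_of_mem φ hx
  by_contra hno
  push Not at hno
  refine no_derange S ⟨hinv, hmem, hno, fun a ha => ?_⟩
  by_contra hnc
  have hb := hmem a ha
  refine hno (a * φ a * a) (by simpa [inv_eq S.hD.1 ha] using S.hD.2.1 a _ hb) ?_
  rw [map_mul, map_mul, hinv]
  exact (braid S.hD.1 ha hb hnc).symm

end Cfsg.Agent.Lib.FischerMTypes.Aut22
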